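import Mathlib

/-!
Atoms of a finite commutative algebra over `ZMod q` in which `r ^ N = r` identically.
-/

set_option autoImplicit false
set_option linter.style.haveILetI false

namespace CfsgLib.SolvClass

/-- A minimal nonzero idempotent. -/
def IsAtomI {R : Type*} [CommRing R] (e : R) : Prop :=
  e * e = e ∧ e ≠ 0 ∧ ∀ x : R, x * x = x → x * e = x → x = 0 ∨ x = e

variable {R : Type*} [CommRing R] [Finite R] {N : ℕ}

theorem idem_of_fixed (hN : 2 ≤ N) (hfix : ∀ r : R, r ^ N = r) (r : R) :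
    r ^ (N - 1) * r ^ (N - 1) = r ^ (N - 1) ∧ r ^ (N - 1) * r = r := by
  have h1 : r ^ (N - 1) * r = r := by rw [← pow_succ, Nat.sub_add_cancel (by omega), hfix]
  refine ⟨?_, h1⟩
  obtain ⟨k, hk⟩ : ∃ k, N - 1 = k + 1 := ⟨N - 2, by omega⟩
  conv_lhs => arg 2; rw [hk, pow_succ']
  rw [← mul_assoc, h1, ← pow_succ', ← hk]

omit [Finite R] in
theorem atom_mul_eq_zero {e e' : R} (he : IsAtomI e) (he' : IsAtomI e') (hne : e ≠ e') : e * e' = 0 := by
  have hx : e * e' * (e * e') = e * e' := by rw [mul_mul_mul_comm, he.1, he'.1]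
  rcases he.2.2 _ hx (by rw [mul_right_comm, he.1]) with h | h
  · exact h
  rcases he'.2.2 _ hx (by rw [mul_assoc, he'.1]) with h' | h'
  · exact h'
  exact absurd (h.symm.trans h') hne

theorem exists_atom_le {x : R} (hx : x * x = x) (hx0 : x ≠ 0) : ∃ e, IsAtomI e ∧ e * x = e := by
  obtain ⟨y, hy, hmin⟩ := Finset.exists_min_image
    ((Set.toFinite {y : R | y * y = y ∧ y ≠ 0 ∧ y * x = y}).toFinset)
    (fun y => Nat.card {z : R // z * y = z}) ⟨x, by simp [hx, hx0]⟩
  rw [Set.Finite.mem_toFinset] at hy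
  obtain ⟨hy1, hy2, hy3⟩ := hy
  refine ⟨y, ⟨hy1, hy2, fun z hz hzy => or_iff_not_imp_left.2 fun hz0 => ?_⟩, hy3⟩
  by_contra hne
  have hmem : z ∈ {y : R | y * y = y ∧ y ≠ 0 ∧ y * x = y} :=
    ⟨hz, hz0, by rw [← hzy, mul_assoc, hy3]⟩
  have hle := hmin z ((Set.Finite.mem_toFinset _).2 hmem)
  have hlt : Nat.card {w : R // w * z = w} < Nat.card {w : R // w * y = w} := by
    refine Set.ncard_lt_ncard (s := {w : R | w * z = w}) (t := {w : R | w * y = w}) ⟨?_, ?_⟩ (Set.toFinite _)
    · intro w (hw : w * z = w)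
      show w * y = w
      rw [← hw, mul_assoc, hzy]
    · intro h
      have h' : y * z = y := h (show y * y = y from hy1)
      exact hne (by rw [← hzy, mul_comm, h'])
  omega

theorem sum_atoms [Fintype {e : R // IsAtomI e}] : ∑ e : {e : R // IsAtomI e}, (e : R) = 1 := by
  classical
  set s := ∑ e : {e : R // IsAtomI e}, (e : R) with hs
  have hmul : ∀ e : {e : R // IsAtomI e}, s * e = e := by
    intro e
    rw [hs, Finset.sum_mul, Finset.sum_eq_single e]
    · exact e.2.1
    · intro b _ hb; exact atom_mul_eq_zero b.2 e.2 fun h => hb (Subtype.ext h)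
    · simp
  have hss : s * s = s := by
    conv_lhs => rw [hs]; arg 1; rw [← hs]
    rw [Finset.mul_sum]
    exact Finset.sum_congr rfl fun e _ => hmul e
  by_contra hne
  obtain ⟨e, he, hes⟩ := exists_atom_le (x := 1 - s) (by rw [sub_mul, mul_sub, mul_sub]; simp [hss])
    (sub_ne_zero.2 (Ne.symm hne))
  rw [mul_sub, mul_one, mul_comm, hmul ⟨e, he⟩, sub_self] at hes
  exact he.2.1 hes.symm

theorem atom_unit {e : R} (he : IsAtomI e) (hN : 2 ≤ N) (hfix : ∀ r : R, r ^ N = r) {r : R}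
    (hr : e * r ≠ 0) : ∃ s, e * r * s = e := by
  obtain ⟨h1, h2⟩ := idem_of_fixed hN hfix (e * r)
  obtain ⟨k, hk⟩ : ∃ k, N - 1 = k + 1 := ⟨N - 2, by omega⟩
  have hle : (e * r) ^ (N - 1) * e = (e * r) ^ (N - 1) := by
    rw [hk, pow_succ, mul_assoc, mul_right_comm e r e, he.1]
  rcases he.2.2 _ h1 hle with h | h
  · rw [h, zero_mul] at h2; exact absurd h2.symm hr
  · exact ⟨(e * r) ^ k, by rw [← pow_succ', ← hk, h]⟩

/-- The ideal killed by `e`. -/
def killIdeal (e : R) : Ideal R where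
  carrier := {r | e * r = 0}
  add_mem' {a b} ha hb := by simp_all [mul_add]
  zero_mem' := by simp
  smul_mem' c x hx := by show e * (c * x) = 0; rw [mul_left_comm, show e * x = 0 from hx, mul_zero]

omit [Finite R] in
theorem mem_killIdeal {e r : R} : r ∈ killIdeal e ↔ e * r = 0 := Iff.rfl

theorem killIdeal_isMaximal {e : R} (he : IsAtomI e) (hN : 2 ≤ N) (hfix : ∀ r : R, r ^ N = r) :
    (killIdeal e).IsMaximal := by
  rw [Ideal.isMaximal_iff]
  refine ⟨fun h => he.2.1 (by simpa [mem_killIdeal] using h), fun J r hJ hr hrJ => ?_⟩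
  obtain ⟨s, hs⟩ := atom_unit he hN hfix (r := r) (by rwa [mem_killIdeal] at hr)
  have h1 : e ∈ J := by
    rw [← hs, mul_comm e r, mul_assoc]; exact J.mul_mem_right _ hrJ
  have h2 : (1 : R) - e ∈ J := hJ (by rw [mem_killIdeal, mul_sub, he.1, mul_one, sub_self])
  simpa using J.add_mem h1 h2

omit [Finite R] in
theorem mk_killIdeal_eq_iff {e r r' : R} :
    Ideal.Quotient.mk (killIdeal e) r = Ideal.Quotient.mk (killIdeal e) r' ↔ e * r = e * r' := by
  rw [Ideal.Quotient.eq, mem_killIdeal, mul_sub, sub_eq_zero]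

variable {q : ℕ} [Fact q.Prime] [Algebra (ZMod q) R]

omit [Finite R] in
theorem killIdeal_ne_top {e : R} (he : IsAtomI e) : killIdeal e ≠ ⊤ := by
  rw [Ne, Ideal.eq_top_iff_one, mem_killIdeal, mul_one]; exact he.2.1

/-- The degree of the field attached to an atom. -/
noncomputable def atomDeg (q : ℕ) [Fact q.Prime] [Algebra (ZMod q) R] (e : R) : ℕ :=
  Module.finrank (ZMod q) (R ⧸ killIdeal e)

theorem card_quot {e : R} : Nat.card (R ⧸ killIdeal e) = q ^ atomDeg q e := by
  haveI : Finite (R ⧸ killIdeal e) := Finite.of_surjective _ Ideal.Quotient.mk_surjective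
  rw [atomDeg, Module.natCard_eq_pow_finrank (K := ZMod q), Nat.card_zmod]

theorem one_le_atomDeg {e : R} (he : IsAtomI e) : 1 ≤ atomDeg q e := by
  haveI : Finite (R ⧸ killIdeal e) := Finite.of_surjective _ Ideal.Quotient.mk_surjective
  haveI : Nontrivial (R ⧸ killIdeal e) := Ideal.Quotient.nontrivial_iff.2 (killIdeal_ne_top he)
  exact Module.finrank_pos

theorem card_atom_corner {e : R} (he : IsAtomI e) :
    Nat.card {r : R // e * r = r} = Nat.card (R ⧸ killIdeal e) := by
  refine Nat.card_eq_of_bijective (fun r => Ideal.Quotient.mk _ r.1) ⟨fun a b h => ?_, fun z => ?_⟩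
  · exact Subtype.ext (by rw [← a.2, ← b.2]; exact mk_killIdeal_eq_iff.1 h)
  · obtain ⟨r, rfl⟩ := Ideal.Quotient.mk_surjective z
    exact ⟨⟨e * r, by rw [← mul_assoc, he.1]⟩, mk_killIdeal_eq_iff.2 (by rw [← mul_assoc, he.1])⟩

/-- The homomorphisms into a field sending the atom `e` to `1`. -/
theorem card_homs_atom_le {e : R} (he : IsAtomI e) (hN : 2 ≤ N) (hfix : ∀ r : R, r ^ N = r)
    (K : Type*) [Field K] [Algebra (ZMod q) K] :
    Nat.card {φ : R →ₐ[ZMod q] K // φ e = 1} ≤ atomDeg q e := by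
  haveI := killIdeal_isMaximal he hN hfix
  letI := Ideal.Quotient.field (killIdeal e)
  haveI : Finite (R ⧸ killIdeal e) := Finite.of_surjective _ Ideal.Quotient.mk_surjective
  haveI : FiniteDimensional (ZMod q) (R ⧸ killIdeal e) := Module.Finite.of_finite
  refine le_trans (Nat.card_le_card_of_injective (β := (R ⧸ killIdeal e) →ₐ[ZMod q] K)
    (fun φ => Ideal.Quotient.liftₐ (killIdeal e) φ.1 fun r hr => ?_) ?_) ?_
  · rw [mem_killIdeal] at hr
    have := congrArg φ.1 hr
    rwa [map_mul, map_zero, φ.2, one_mul] at this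
  · intro a b h
    refine Subtype.ext (AlgHom.ext fun r => ?_)
    have := DFunLike.congr_fun h (Ideal.Quotient.mk _ r)
    exact this
  · exact (card_algHom_le_finrank (ZMod q) (R ⧸ killIdeal e) K)

theorem exists_atom_of_hom {K : Type*} [Field K] [Algebra (ZMod q) K] (φ : R →ₐ[ZMod q] K) :
    ∃ e, IsAtomI e ∧ φ e = 1 := by
  classical
  haveI : Fintype {e : R // IsAtomI e} := Fintype.ofFinite _
  by_contra! h
  have h0 : ∀ e : {e : R // IsAtomI e}, φ e = 0 := fun e => by
    have h1 : φ e * φ e = φ e := by rw [← map_mul, e.2.1]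
    exact (mul_left_eq_self₀.1 h1).resolve_left (h e e.2)
  have := congrArg φ (sum_atoms (R := R))
  simp [h0] at this

end CfsgLib.SolvClass
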