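import Cfsg.Agent.Lib.SolvClass.Numeric
import Cfsg.Agent.Lib.Solvable.ChiefFitting

/-!
The class number of a solvable group is at least `p / (3 log₂ p)` for `p` dividing the index of the Fitting
subgroup.
-/

set_option autoImplicit false
set_option linter.style.haveILetI false
set_option maxHeartbeats 1000000

namespace CfsgLib.SolvClass

open Subgroup
open scoped commutatorElement

universe u

theorem card_le_ncard_image_mul_index {H : Type*} [Group H] [Finite H] (S : Finset H) (C : Subgroup H)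
    (hSC : ∀ t ∈ S, ∀ c ∈ C, c * t = t * c) :
    S.card ≤ (ConjClasses.mk '' (S : Set H)).ncard * C.index := by
  classical
  refine (card_le_image_mul_index S C hSC).trans (le_of_eq ?_)
  rw [← Set.ncard_coe_finset, Finset.coe_image]

theorem card_conjClasses_le_of_surjective {G H : Type*} [Group G] [Group H] [Finite G] {f : G →* H}
    (hf : Function.Surjective f) : Nat.card (ConjClasses H) ≤ Nat.card (ConjClasses G) :=
  Nat.card_le_card_of_surjective (ConjClasses.map f) (ConjClasses.map_surjective hf)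

theorem two_pow_le_of_small {p k : ℕ} (hp : p.Prime) (h79 : p < 79) (hk : 4 ≤ k) : 2 ^ p ≤ p ^ (3 * k) := by
  have key : ∀ n : ℕ, n < 74 → 2 ≤ n → 2 ^ n ≤ n ^ 12 := by decide +kernel
  have h74 : p < 74 := by
    by_contra! h
    interval_cases p <;> norm_num at hp
  exact (key p h74 hp.two_le).trans (Nat.pow_le_pow_right hp.pos (by omega))

theorem two_pow_le_of_numeric {p k : ℕ} (hp : p.Prime) {k' : ℕ} (hk : k' ≤ k)
    (h : p ≤ 3 * Nat.log 2 p * k' ∨ (p = 8191 ∧ 211 ≤ k')) : 2 ^ p ≤ p ^ (3 * k) := by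
  refine le_trans ?_ (Nat.pow_le_pow_right hp.pos (Nat.mul_le_mul_left 3 hk))
  rcases h with h | ⟨rfl, h⟩
  · calc 2 ^ p ≤ 2 ^ (Nat.log 2 p * (3 * k')) := Nat.pow_le_pow_right (by norm_num) (h.trans_eq (by ring))
      _ = (2 ^ Nat.log 2 p) ^ (3 * k') := pow_mul _ _ _
      _ ≤ p ^ (3 * k') := Nat.pow_le_pow_left (Nat.pow_log_le_self 2 hp.ne_zero) _
  · refine le_trans ?_ (Nat.pow_le_pow_right (by norm_num) (show 633 ≤ 3 * k' by omega))
    decide +kernel

/-- The bound for a group with a faithful irreducible module and a normal elementary abelian subgroup. -/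
theorem two_pow_le_of_module {q : ℕ} [Fact q.Prime] {V : Type u} [AddCommGroup V] [Module (ZMod q) V] [Finite V]
    [Nontrivial V] {H : Type u} [Group H] [Finite H] [Group.IsSolvable H] (ρ : H →* Module.End (ZMod q) V)
    (hinj : Function.Injective ρ) (hirr : Irr ρ) (A : Subgroup H) [A.Normal] {p : ℕ} [hp : Fact p.Prime]
    (hpq : p ≠ q) (hAc : ∀ a ∈ A, ∀ b ∈ A, a * b = b * a) (hAp : ∀ a ∈ A, a ^ p = 1) (hA : A ≠ ⊥) {k : ℕ}
    (hk : (orbitSets ρ).ncard + Nat.card (ConjClasses H) ≤ k) : 2 ^ p ≤ p ^ (3 * k) := by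
  classical
  haveI : Fintype H := Fintype.ofFinite H
  obtain ⟨f, d, M, S, a, hf, hd, hM, ha, hV, hpd, hAcard, hHA, hS3, hSf, hMx, hxy⟩ :=
    exists_product_bound ρ hinj hirr A hpq hAc hAp hA
  have hclass : p ^ a - 1 ≤ (Nat.card (ConjClasses H) - 1) * (f * M) ^ a := by
    have h1 := card_le_ncard_image_mul_index ((Finset.univ.filter fun h => h ∈ A).erase 1)
      (Subgroup.centralizer (A : Set H)) (fun t ht c hc =>
        (Subgroup.mem_centralizer_iff.1 hc t (Finset.mem_filter.1 (Finset.mem_of_mem_erase ht)).2).symm)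
    rw [Finset.card_erase_of_mem (Finset.mem_filter.2 ⟨Finset.mem_univ _, one_mem A⟩)] at h1
    have h2 : (Finset.univ.filter fun h => h ∈ A).card = p ^ a := by
      rw [← hAcard, Nat.card_eq_fintype_card, Fintype.card_subtype]
    rw [h2] at h1
    refine h1.trans (Nat.mul_le_mul ?_ hHA)
    haveI : Finite (ConjClasses H) := inferInstance
    rw [show Nat.card (ConjClasses H) - 1 = ({ConjClasses.mk (1 : H)}ᶜ : Set (ConjClasses H)).ncard by
      rw [Set.ncard_compl, Set.ncard_singleton]]
    refine Set.ncard_le_ncard ?_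
    rintro _ ⟨t, ht, rfl⟩
    refine fun h => (Finset.mem_erase.1 ht).1 ?_
    exact isConj_one_right.1 (ConjClasses.mk_eq_mk_iff_isConj.1 h).symm
  rcases eq_or_ne p 2 with rfl | hp2
  · refine Nat.pow_le_pow_right (by norm_num) ?_
    have : 1 ≤ Nat.card (ConjClasses H) := by
      haveI : Nonempty (ConjClasses H) := ⟨ConjClasses.mk 1⟩
      exact Nat.card_pos
    omega
  rcases Nat.lt_or_ge p 79 with h79 | h79
  · refine two_pow_le_of_small hp.out h79 (le_trans ?_ hk)
    suffices 3 ≤ Nat.card (ConjClasses H) by omega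
    by_contra! hlt
    obtain ⟨b, hb1⟩ := A.ne_bot_iff_exists_ne_one.1 hA
    have hb1' : (b : H) ≠ 1 := fun h => hb1 (Subtype.ext h)
    have hall : ∀ h : H, h ∈ A := by
      intro h
      by_contra hh
      have h3 : ({ConjClasses.mk (1 : H), ConjClasses.mk (b : H), ConjClasses.mk h} : Finset (ConjClasses H)).card = 3 := by
        rw [Finset.card_eq_three]
        refine ⟨_, _, _, fun e => hb1' (isConj_one_right.1 (ConjClasses.mk_eq_mk_iff_isConj.1 e)),
          fun e => hh ?_, fun e => hh ?_, rfl⟩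
        · rw [isConj_one_right.1 (ConjClasses.mk_eq_mk_iff_isConj.1 e)]; exact one_mem A
        · obtain ⟨g, hg⟩ := isConj_iff.1 (ConjClasses.mk_eq_mk_iff_isConj.1 e)
          rw [← hg]; exact Subgroup.Normal.conj_mem inferInstance _ b.2 g
      haveI : Fintype (ConjClasses H) := Fintype.ofFinite _
      have := Finset.card_le_univ ({ConjClasses.mk (1 : H), ConjClasses.mk (b : H), ConjClasses.mk h} : Finset (ConjClasses H))
      rw [h3, ← Nat.card_eq_fintype_card] at this
      omega
    have hcl : Nat.card H ≤ Nat.card (ConjClasses H) := by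
      refine Nat.card_le_card_of_injective ConjClasses.mk fun x y hxy => ?_
      obtain ⟨g, hg⟩ := isConj_iff.1 (ConjClasses.mk_eq_mk_iff_isConj.1 hxy)
      rw [← hg, hAc g (hall g) x (hall x), mul_inv_cancel_right]
    have h2 : Nat.card A ≤ Nat.card H := Subgroup.card_le_card_group A
    rw [hAcard] at h2
    have h3 : p ≤ p ^ a := Nat.le_self_pow (by omega) p
    have := hp.out.two_le
    omega
  · have hy : 1 ≤ Nat.card (ConjClasses H) := by
      haveI : Nonempty (ConjClasses H) := ⟨ConjClasses.mk 1⟩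
      exact Nat.card_pos
    exact two_pow_le_of_numeric hp.out hk
      (numeric (Fact.out : q.Prime) hp.out h79 ha hf hd hM hpd hS3 hSf hMx hy hclass hxy)

/-- The bound for a group acting faithfully and irreducibly on an elementary abelian group. -/
theorem two_pow_le_of_action {W : Type u} [CommGroup W] [Finite W] [Nontrivial W] {s : ℕ} [Fact s.Prime]
    (hW : ∀ w : W, w ^ s = 1) {H : Type u} [Group H] [Finite H] [Group.IsSolvable H] (σ : H →* MulAut W)
    (hinj : Function.Injective σ) (hirr : ∀ K : Subgroup W, (∀ h, ∀ w ∈ K, σ h w ∈ K) → K = ⊥ ∨ K = ⊤)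
    (A : Subgroup H) [A.Normal] {p : ℕ} [hp : Fact p.Prime] (hAc : ∀ a ∈ A, ∀ b ∈ A, a * b = b * a)
    (hAp : ∀ a ∈ A, a ^ p = 1) (hA : A ≠ ⊥) {k : ℕ}
    (hk : ((fun w => Set.range fun h => σ h w) '' {w : W | w ≠ 1}).ncard + Nat.card (ConjClasses H) ≤ k) :
    2 ^ p ≤ p ^ (3 * k) := by
  haveI : Module (ZMod s) (Additive W) := AddCommGroup.zmodModule (n := s) (fun v => by
    show Additive.ofMul ((Additive.toMul v) ^ s) = 0
    rw [hW]; rfl)
  let ρ : H →* Module.End (ZMod s) (Additive W) :=
    { toFun := fun g => AddMonoidHom.toZModLinearMap s (AddMonoidHom.mk'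
        (fun v : Additive W => Additive.ofMul (σ g (Additive.toMul v)))
        (fun v w => congrArg Additive.ofMul (map_mul (σ g) _ _)))
      map_one' := LinearMap.ext fun v => by
        show Additive.ofMul (σ 1 (Additive.toMul v)) = v
        rw [map_one]; rfl
      map_mul' := fun g h => LinearMap.ext fun v => by
        show Additive.ofMul (σ (g * h) (Additive.toMul v)) = Additive.ofMul (σ g (σ h (Additive.toMul v)))
        rw [map_mul]; rfl }
  have hρ : ∀ h w, ρ h (Additive.ofMul w) = Additive.ofMul (σ h w) := fun _ _ => rfl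
  have hinj' : Function.Injective ρ := fun a b hab => hinj (MulEquiv.ext fun w =>
    congrArg Additive.toMul (LinearMap.congr_fun hab (Additive.ofMul w)))
  have hirr' : Irr ρ := by
    intro U hU
    let K : Subgroup W :=
      { carrier := {w | Additive.ofMul w ∈ U}
        one_mem' := U.zero_mem
        mul_mem' := fun {a b} ha hb => U.add_mem ha hb
        inv_mem' := fun {a} ha => U.neg_mem ha }
    rcases hirr K (fun h w hw => hU h _ hw) with h | h
    · left
      refine eq_bot_iff.2 fun v hv => ?_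
      have : Additive.toMul v ∈ K := hv
      rw [h, Subgroup.mem_bot] at this
      exact (Submodule.mem_bot _).2 (congrArg Additive.ofMul this)
    · right
      refine eq_top_iff.2 fun v _ => ?_
      have : Additive.toMul v ∈ K := h.symm ▸ Subgroup.mem_top _
      exact this
  have hps : p ≠ s := by
    rintro rfl
    exact hA (eq_bot_of_isPGroup ρ hinj' hirr' A fun x => ⟨1, by rw [pow_one]; exact Subtype.ext (hAp _ x.2)⟩)
  exact two_pow_le_of_module ρ hinj' hirr' A hps hAc hAp hA hk

theorem card_conjClasses_module_le {G : Type u} [Group G] [Finite G] (W : Subgroup G) [hW : W.Normal] :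
    (Set.range fun w : {w : W // w ≠ 1} => ConjClasses.mk ((w : W) : G)).ncard + Nat.card (ConjClasses (G ⧸ W)) ≤
      Nat.card (ConjClasses G) := by
  classical
  rw [← Nat.card_coe_set_eq, ← Nat.card_sum]
  choose g hg using fun c : ConjClasses (G ⧸ W) => ConjClasses.map_surjective (f := QuotientGroup.mk' W)
    (QuotientGroup.mk'_surjective W) c
  let lift : ConjClasses (G ⧸ W) → ConjClasses G := fun c =>
    if c = ConjClasses.mk 1 then ConjClasses.mk 1 else g c
  have hlift : ∀ c, ConjClasses.map (QuotientGroup.mk' W) (lift c) = c := by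
    intro c
    simp only [lift]
    split
    · next h => rw [h]; exact congrArg ConjClasses.mk (map_one _)
    · exact hg c
  refine Nat.card_le_card_of_injective (Sum.elim Subtype.val lift) ?_
  refine Function.Injective.sumElim Subtype.val_injective
    (Function.LeftInverse.injective hlift) ?_
  rintro ⟨_, w, rfl⟩ c h
  have hc : c = ConjClasses.mk 1 := by
    rw [← hlift c, ← h]
    show ConjClasses.mk (QuotientGroup.mk' W ((w : W) : G)) = _
    rw [QuotientGroup.mk'_apply, (QuotientGroup.eq_one_iff _).2 (w : W).2]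
  have h1 : lift c = ConjClasses.mk 1 := by simp [lift, hc]
  exact w.2 (Subtype.ext (isConj_one_right.1 (ConjClasses.mk_eq_mk_iff_isConj.1 (h.trans h1)).symm))

theorem two_pow_le : ∀ (n : ℕ) {G : Type u} [Group G] [Finite G], Nat.card G = n → Group.IsSolvable G →
    ∀ (p : ℕ) [Fact p.Prime], p ∣ (Cfsg.fittingSubgroup G).index →
    2 ^ p ≤ p ^ (3 * Nat.card (ConjClasses G)) := by
  intro n
  induction n using Nat.strong_induction_on with
  | _ n ih =>
  intro G _ _ hn hG p hp hdvd
  haveI := hG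
  classical
  set F := Cfsg.fittingSubgroup G with hF
  haveI hFn : F.Normal := CfsgLib.Solvable.fittingSubgroup_normal G
  haveI : Group.IsSolvable (G ⧸ F) := Group.isSolvable_of_surjective (QuotientGroup.mk'_surjective F)
  by_cases hrec : p ∣ (Cfsg.fittingSubgroup (G ⧸ F)).index
  · have hF1 : F ≠ ⊥ := by
      haveI : Nontrivial G := by
        by_contra h
        rw [not_nontrivial_iff_subsingleton] at h
        have : (Cfsg.fittingSubgroup G).index = 1 := by
          rw [Subgroup.index_eq_one]; exact Subsingleton.elim _ _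
        rw [this] at hdvd
        exact hp.out.not_dvd_one hdvd
      exact CfsgLib.Solvable.fittingSubgroup_ne_bot
    have hlt : Nat.card (G ⧸ F) < n := by
      rw [← hn, Subgroup.card_eq_card_quotient_mul_card_subgroup F]
      have h1 : 1 < Nat.card F := (Finite.one_lt_card_iff_nontrivial).2 ((Subgroup.nontrivial_iff_ne_bot F).2 hF1)
      have h2 : 0 < Nat.card (G ⧸ F) := Nat.card_pos
      nlinarith
    refine (ih _ hlt rfl inferInstance p hrec).trans (Nat.pow_le_pow_right hp.out.pos ?_)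
    exact Nat.mul_le_mul_left 3 (card_conjClasses_le_of_surjective (QuotientGroup.mk'_surjective F))
  -- the core of `G ⧸ F`
  haveI := CfsgLib.Solvable.fittingSubgroup_normal (G ⧸ F)
  haveI hFbn := CfsgLib.Solvable.fittingSubgroup_isNilpotent (G ⧸ F)
  have hpF : p ∣ Nat.card (Cfsg.fittingSubgroup (G ⧸ F)) := by
    have : p ∣ Nat.card (Cfsg.fittingSubgroup (G ⧸ F)) * (Cfsg.fittingSubgroup (G ⧸ F)).index := by
      rw [Subgroup.card_mul_index]; exact hdvd
    exact (hp.out.dvd_mul.1 this).resolve_right hrec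
  obtain ⟨Q⟩ : Nonempty (Sylow p (Cfsg.fittingSubgroup (G ⧸ F))) := inferInstance
  haveI : (Q : Subgroup (Cfsg.fittingSubgroup (G ⧸ F))).Characteristic :=
    Sylow.characteristic_of_normal _ inferInstance
  obtain ⟨A₀, hA₀n, hA₀1, hA₀Q, hA₀min⟩ := CfsgLib.Solvable.exists_minimal_normal_le
    ((Q : Subgroup (Cfsg.fittingSubgroup (G ⧸ F))).map (Cfsg.fittingSubgroup (G ⧸ F)).subtype)
    (fun h => Q.ne_bot_of_dvd_card hpF ((Subgroup.map_eq_bot_iff_of_injective _ (Subgroup.subtype_injective _)).1 h))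
  haveI := hA₀n
  obtain ⟨hA₀c, r, hr, hA₀r⟩ := CfsgLib.Solvable.minimal_normal_elementary_abelian A₀ hA₀1 hA₀min
  have hA₀p : ∀ x ∈ A₀, x ^ p = 1 := by
    intro x hx
    by_cases h1 : x = 1
    · simp [h1]
    obtain ⟨j, hj⟩ := ((Q.isPGroup'.map _).to_le hA₀Q) ⟨x, hx⟩
    have hj' : x ^ p ^ j = 1 := congrArg Subtype.val hj
    haveI := Fact.mk hr
    have h2 : orderOf x = r := orderOf_eq_prime (hA₀r x hx) h1
    have h3 : r ∣ p ^ j := h2 ▸ orderOf_dvd_of_pow_eq_one hj'
    obtain rfl : r = p := (Nat.prime_dvd_prime_iff_eq hr hp.out).1 (hr.dvd_of_dvd_pow h3)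
    exact hA₀r x hx
  set X := A₀.comap (QuotientGroup.mk' F) with hX
  haveI hXn : X.Normal := inferInstance
  have hXnil : ¬ Group.IsNilpotent X := by
    intro h
    refine hA₀1 (eq_bot_iff.2 fun y hy => ?_)
    obtain ⟨g, rfl⟩ := QuotientGroup.mk'_surjective F y
    rw [Subgroup.mem_bot]
    exact (QuotientGroup.eq_one_iff g).2 (CfsgLib.Solvable.le_fittingSubgroup hXn h hy)
  have hXF : F ≤ X := fun g hg => Subgroup.mem_comap.2 (by
    rw [QuotientGroup.mk'_apply, (QuotientGroup.eq_one_iff g).2 hg]; exact one_mem _)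
  -- a largest normal subgroup over which `X` stays non-nilpotent
  obtain ⟨N, hN⟩ := (Set.toFinite {N : Subgroup G | N.Normal ∧ N ≤ F ∧ ∀ j, ¬ X.lowerCentralSeries j ≤ N}).exists_maximal
    ⟨⊥, inferInstance, bot_le, fun j hj => hXnil
      ((Subgroup.isNilpotent_iff_lowerCentralSeries X).2 ⟨j, eq_bot_iff.2 hj⟩)⟩
  obtain ⟨⟨hNn, hNF, hNX⟩, hNmax⟩ := hN
  have hA₀ab : ∀ a ∈ A₀, ∀ b ∈ A₀, a * b = b * a := fun a ha b hb => by
    haveI := hA₀c
    exact setLike_mul_comm ha hb
  have hXX : ⁅X, X⁆ ≤ F := Subgroup.commutator_le.2 fun a ha b hb => by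
    rw [← QuotientGroup.eq_one_iff, commutatorElement_def]
    have h := hA₀ab _ ha _ hb
    simp only [QuotientGroup.mk'_apply] at h
    simp only [QuotientGroup.mk_mul, QuotientGroup.mk_inv]
    rw [h, mul_inv_cancel_right, mul_inv_cancel]
  have hNF' : N < F := lt_of_le_of_ne hNF fun h => hNX 1 (by
    rw [Subgroup.lowerCentralSeries_succ, Subgroup.lowerCentralSeries_zero, h]; exact hXX)
  obtain ⟨W, hW⟩ := (Set.toFinite {W : Subgroup G | W.Normal ∧ N < W ∧ W ≤ F}).exists_minimal
    ⟨F, hFn, hNF', le_rfl⟩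
  obtain ⟨⟨hWn, hNW, hWF⟩, hWmin⟩ := hW
  have hchief : Cfsg.IsChiefFactor W N := ⟨hNW, hWn, hNn, fun K hK hNK hKW => by
    rcases eq_or_lt_of_le hNK with h | h
    · exact Or.inl h.symm
    · exact Or.inr (le_antisymm hKW (hWmin ⟨hK, h, hKW.trans hWF⟩ hKW))⟩
  obtain ⟨j, hj⟩ : ∃ j, X.lowerCentralSeries j ≤ W := by
    by_contra! h
    exact hNW.not_ge (hNmax ⟨hWn, hWF, h⟩ hNW.le)
  have hWX : ¬ ⁅W, X⁆ ≤ N := fun h => hNX (j + 1) ((Subgroup.commutator_mono hj le_rfl).trans h)
  -- pass to the quotient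
  haveI := hNn
  haveI := hWn
  let G' := G ⧸ N
  let π : G →* G' := QuotientGroup.mk' N
  have hπ : Function.Surjective π := QuotientGroup.mk'_surjective N
  haveI : Group.IsSolvable G' := Group.isSolvable_of_surjective hπ
  set W' : Subgroup G' := W.map π with hW'
  haveI hW'n : W'.Normal := hWn.map π hπ
  have hW'1 : W' ≠ ⊥ := fun h => hNW.not_ge (by
    rwa [hW', Subgroup.map_eq_bot_iff, QuotientGroup.ker_mk'] at h)
  have hW'min : ∀ K : Subgroup G', K.Normal → K ≤ W' → K = ⊥ ∨ K = W' := by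
    intro K hK hKW
    haveI := hK
    have h1 : K.comap π ≤ W := by
      refine (Subgroup.comap_mono hKW).trans ?_
      rw [hW', Subgroup.comap_map_eq, QuotientGroup.ker_mk', sup_eq_left.2 hNW.le]
    have h2 : N ≤ K.comap π := fun g hg => Subgroup.mem_comap.2 (by
      show (QuotientGroup.mk g : G') ∈ K
      rw [(QuotientGroup.eq_one_iff g).2 hg]; exact one_mem _)
    rcases hchief.2.2.2 _ inferInstance h2 h1 with h | h
    · left; rw [← Subgroup.map_comap_eq_self_of_surjective hπ K, h, Subgroup.map_eq_bot_iff, QuotientGroup.ker_mk']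
    · right; rw [← Subgroup.map_comap_eq_self_of_surjective hπ K, h]
  obtain ⟨hW'c, s, hs, hW's⟩ := CfsgLib.Solvable.minimal_normal_elementary_abelian W' hW'1 hW'min
  haveI := Fact.mk hs
  letI : CommGroup W' := { (inferInstance : Group W') with mul_comm := fun a b => Subtype.ext (by
    haveI := hW'c
    exact setLike_mul_comm a.2 b.2) }
  haveI : Nontrivial W' := (Subgroup.nontrivial_iff_ne_bot W').2 hW'1
  let cj : G' →* MulAut W' := MulAut.conjNormal
  let H := G' ⧸ cj.ker
  haveI : Group.IsSolvable H := Group.isSolvable_of_surjective (QuotientGroup.mk'_surjective cj.ker)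
  let σ : H →* MulAut W' := QuotientGroup.kerLift cj
  have hσ : ∀ (g : G') (w : W'), σ (QuotientGroup.mk g) w = cj g w := fun _ _ => rfl
  have hirr : ∀ K : Subgroup W', (∀ h, ∀ w ∈ K, σ h w ∈ K) → K = ⊥ ∨ K = ⊤ := by
    intro K hK
    have hKn : (K.map W'.subtype).Normal := ⟨fun a ha g => by
      obtain ⟨w, hw, rfl⟩ := ha
      exact ⟨σ (QuotientGroup.mk g) w, hK _ w hw, rfl⟩⟩
    rcases hW'min _ hKn (Subgroup.map_subtype_le K) with h | h
    · left; exact (Subgroup.map_eq_bot_iff_of_injective _ W'.subtype_injective).1 h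
    · right
      refine Subgroup.map_injective W'.subtype_injective ?_
      rw [h, ← MonoidHom.range_eq_map, Subgroup.range_subtype]
  have hFker : ∀ g ∈ F, π g ∈ cj.ker := by
    intro g hg
    rw [MonoidHom.mem_ker]
    refine MulEquiv.ext fun w => Subtype.ext ?_
    obtain ⟨u, hu, hu'⟩ := w.2
    show π g * (w : G') * (π g)⁻¹ = w
    have h1 : ⁅u, g⁆ ∈ N :=
      (CfsgLib.Solvable.commutator_chiefFactor_fitting_le hchief) (Subgroup.commutator_mem_commutator hu hg)
    have h2 : ⁅π u, π g⁆ = 1 := by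
      rw [← map_commutatorElement]; exact (QuotientGroup.eq_one_iff _).2 h1
    rw [← hu', ← commutatorElement_eq_one_iff_mul_comm.1 h2, mul_inv_cancel_right]
  let A : Subgroup H := X.map ((QuotientGroup.mk' cj.ker).comp π)
  haveI hAn : A.Normal := hXn.map _ ((QuotientGroup.mk'_surjective _).comp hπ)
  have hFone : ∀ g ∈ F, ((QuotientGroup.mk' cj.ker).comp π) g = 1 := fun g hg =>
    (QuotientGroup.eq_one_iff _).2 (hFker g hg)
  have hAc : ∀ a ∈ A, ∀ b ∈ A, a * b = b * a := by
    rintro _ ⟨a, ha, rfl⟩ _ ⟨b, hb, rfl⟩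
    have := hFone _ (hXX (Subgroup.commutator_mem_commutator ha hb))
    rw [map_commutatorElement] at this
    exact commutatorElement_eq_one_iff_mul_comm.1 this
  have hAp : ∀ a ∈ A, a ^ p = 1 := by
    rintro _ ⟨a, ha, rfl⟩
    rw [← map_pow]
    exact hFone _ ((QuotientGroup.eq_one_iff (N := F) _).1 (by
      rw [QuotientGroup.mk_pow]; exact hA₀p _ ha))
  have hA1 : A ≠ ⊥ := by
    intro h
    refine hWX (Subgroup.commutator_le.2 fun u hu x hx => ?_)
    rw [← QuotientGroup.eq_one_iff, show (QuotientGroup.mk ⁅u, x⁆ : G') = π ⁅u, x⁆ from rfl, map_commutatorElement,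
      commutatorElement_eq_one_iff_mul_comm]
    have hxk : π x ∈ cj.ker := by
      have : ((QuotientGroup.mk' cj.ker).comp π) x ∈ A := ⟨x, hx, rfl⟩
      rw [h, Subgroup.mem_bot] at this
      exact (QuotientGroup.eq_one_iff _).1 this
    have h3 : π x * π u * (π x)⁻¹ = π u :=
      congrArg Subtype.val (MulEquiv.congr_fun (MonoidHom.mem_ker.1 hxk) ⟨π u, u, hu, rfl⟩)
    conv_lhs => rw [← h3]
    rw [inv_mul_cancel_right]
  refine two_pow_le_of_action (s := s) (fun w => Subtype.ext (by rw [SubgroupClass.coe_pow]; exact hW's _ w.2))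
    σ (QuotientGroup.kerLift_injective cj) hirr A hAc hAp hA1 ?_
  refine le_trans ?_ (card_conjClasses_le_of_surjective hπ)
  refine le_trans (Nat.add_le_add ?_ ?_) (card_conjClasses_module_le W')
  · choose v hv hv' using fun S : ((fun w => Set.range fun h => σ h w) '' {w : W' | w ≠ 1}) => S.2
    rw [← Nat.card_coe_set_eq, ← Nat.card_coe_set_eq]
    refine Nat.card_le_card_of_injective
      (fun S => (⟨_, ⟨v S, hv S⟩, rfl⟩ :
        Set.range fun w : {w : W' // w ≠ 1} => ConjClasses.mk ((w : W') : G'))) fun S T hST => ?_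
    obtain ⟨g, hg⟩ := isConj_iff.1 (ConjClasses.mk_eq_mk_iff_isConj.1 (congrArg Subtype.val hST))
    have h1 : σ (QuotientGroup.mk g) (v S) = v T := Subtype.ext hg
    have h2 : (Set.range fun h : H => σ h (v S)) = Set.range fun h : H => σ h (v T) := by
      ext z
      constructor
      · rintro ⟨h, rfl⟩
        refine ⟨h * (QuotientGroup.mk g)⁻¹, ?_⟩
        show σ (h * _) (v T) = σ h (v S)
        rw [← h1, ← MulAut.mul_apply, ← map_mul, inv_mul_cancel_right]
      · rintro ⟨h, rfl⟩
        exact ⟨h * QuotientGroup.mk g, by show σ _ (v S) = σ h (v T); rw [← h1, map_mul]; rfl⟩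
    exact Subtype.ext ((hv' S).symm.trans (h2.trans (hv' T)))
  · have hWker : W' ≤ cj.ker := by
      rintro _ ⟨u, hu, rfl⟩
      exact hFker u (hWF hu)
    refine card_conjClasses_le_of_surjective
      (f := QuotientGroup.map W' cj.ker (MonoidHom.id G') (fun x hx => hWker hx)) ?_
    intro y
    obtain ⟨g, rfl⟩ := QuotientGroup.mk_surjective y
    exact ⟨QuotientGroup.mk g, rfl⟩

end CfsgLib.SolvClass
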