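import Mathlib
import Cfsg.Agent.Lib.Solvable.Core

/-!
The order of a solvable transitive permutation group of degree `n` is at most `24 ^ ((n - 1) / 3)`.
-/

set_option autoImplicit false
set_option linter.style.haveILetI false

namespace CfsgLib.SolvClass

open Subgroup

/-- Bound for the order of the automorphism group of a group of order `n`. -/
def autBound (n : ℕ) : ℕ := ∏ i ∈ Finset.range (Nat.log 2 n), (n - 2 ^ i)

theorem one_le_autFactor {n i : ℕ} (hi : i < Nat.log 2 n) : 1 ≤ n - 2 ^ i := by
  have h1 : 2 ^ Nat.log 2 n ≤ n := Nat.pow_log_le_self 2 (by rintro rfl; simp at hi)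
  have h2 : 2 ^ i < 2 ^ Nat.log 2 n := Nat.pow_lt_pow_right (by norm_num) hi
  omega

theorem card_mulAut_le {N : Type*} [Group N] [Finite N] :
    Nat.card (MulAut N) ≤ autBound (Nat.card N) := by
  classical
  set n := Nat.card N with hn
  set g := Nat.log 2 n with hg
  have key : ∀ m, ∀ K : Subgroup N, ∀ i, g - i = m → 2 ^ i ≤ Nat.card K →
      Nat.card {φ : MulAut N // ∀ x ∈ K, φ x = x} ≤ ∏ j ∈ Finset.Ico i g, (n - 2 ^ j) := by
    intro m
    induction m using Nat.strong_induction_on with
    | _ m ih =>
      intro K i hm hK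
      by_cases hKtop : K = ⊤
      · subst hKtop
        haveI : Subsingleton {φ : MulAut N // ∀ x ∈ (⊤ : Subgroup N), φ x = x} :=
          ⟨fun a b => Subtype.ext (MulEquiv.ext fun x => (a.2 x trivial).trans (b.2 x trivial).symm)⟩
        refine Finite.card_le_one_iff_subsingleton.2 inferInstance |>.trans ?_
        exact Finset.prod_pos fun j hj => Nat.lt_of_succ_le (one_le_autFactor (n := n) (Finset.mem_Ico.1 hj).2)
      obtain ⟨x, hx⟩ : ∃ x, x ∉ K := by
        by_contra! h
        exact hKtop (eq_top_iff.2 fun y _ => h y)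
      set K' := K ⊔ zpowers x with hK'
      have hlt : K < K' := lt_of_le_of_ne le_sup_left fun h =>
        hx (h ▸ (le_sup_right : zpowers x ≤ K') (mem_zpowers x))
      have h2 : 2 * Nat.card K ≤ Nat.card K' := by
        obtain ⟨c, hc⟩ := Subgroup.card_dvd_of_le hlt.le
        have hne : Nat.card K' ≠ Nat.card K := fun h =>
          hlt.ne (Subgroup.eq_of_le_of_card_ge hlt.le h.le)
        have h0 : 0 < Nat.card K' := Nat.card_pos
        have h1 : c ≠ 0 := fun h => by rw [h, mul_zero] at hc; omega
        have h2 : c ≠ 1 := fun h => by rw [h, mul_one] at hc; omega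
        rw [hc, mul_comm 2]
        exact Nat.mul_le_mul_left _ (by omega)
      have hi1 : 2 ^ (i + 1) ≤ Nat.card K' := by rw [pow_succ]; omega
      have hig : i + 1 ≤ g := Nat.le_log_of_pow_le (by norm_num)
        (hi1.trans (Nat.le_of_dvd Nat.card_pos (Subgroup.card_subgroup_dvd_card K')))
      have hfix : Nat.card {φ : MulAut N // ∀ y ∈ K', φ y = y} ≤
          ∏ j ∈ Finset.Ico (i + 1) g, (n - 2 ^ j) := ih (g - (i + 1)) (by omega) K' (i + 1) rfl hi1
      rw [Finset.prod_eq_prod_Ico_succ_bot (show i < g by omega)]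
      haveI : Fintype {φ : MulAut N // ∀ y ∈ K, φ y = y} := Fintype.ofFinite _
      haveI : Fintype N := Fintype.ofFinite N
      rw [Nat.card_eq_fintype_card]
      have hmap : ∀ φ ∈ (Finset.univ : Finset {φ : MulAut N // ∀ y ∈ K, φ y = y}),
          φ.1 x ∈ Finset.univ.filter fun z => z ∉ K := by
        intro φ _
        refine Finset.mem_filter.2 ⟨Finset.mem_univ _, fun hmem => hx ?_⟩
        have := φ.2 _ hmem
        rwa [φ.1.injective this] at hmem
      have hcard : (Finset.univ.filter fun z => z ∉ K).card ≤ n - 2 ^ i := by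
        have hall : Fintype.card N = n := Nat.card_eq_fintype_card.symm
        have hK0 : Nat.card K = (Finset.univ.filter fun z => z ∈ K).card := by
          rw [← Nat.card_eq_finsetCard]
          exact Nat.card_congr (Equiv.subtypeEquivRight fun z => by simp)
        have hsum : (Finset.univ.filter fun z => z ∈ K).card + (Finset.univ.filter fun z => z ∉ K).card = n := by
          rw [← Finset.card_union_of_disjoint (Finset.disjoint_filter_filter_not _ _ _),
            Finset.filter_union_filter_not_eq, Finset.card_univ, hall]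
        omega
      refine (Finset.card_le_mul_card_image_of_maps_to hmap _ (fun z _ => ?_)).trans ?_ (b :=
        (∏ j ∈ Finset.Ico (i + 1) g, (n - 2 ^ j)) * (Finset.univ.filter fun z => z ∉ K).card)
      · refine le_trans ?_ hfix
        rcases (Finset.univ.filter fun φ : {φ : MulAut N // ∀ y ∈ K, φ y = y} =>
          φ.1 x = z).eq_empty_or_nonempty with he | ⟨φ₀, hφ₀⟩
        · rw [he]; simp
        · rw [Finset.mem_filter] at hφ₀
          rw [← Nat.card_eq_finsetCard]
          refine Nat.card_le_card_of_injective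
            (fun φ => (⟨φ₀.1⁻¹ * φ.1.1, ?_⟩ : {φ : MulAut N // ∀ y ∈ K', φ y = y})) ?_
          · have hφx := (Finset.mem_filter.1 φ.2).2
            have hle : K' ≤ (φ₀.1⁻¹ * φ.1.1 : MulAut N).toMonoidHom.eqLocus (MonoidHom.id N) := by
              refine sup_le (fun y hy => ?_) (zpowers_le.2 ?_)
              · show φ₀.1.symm (φ.1.1 y) = y
                rw [φ.1.2 y hy, MulEquiv.symm_apply_eq, φ₀.2 y hy]
              · show φ₀.1.symm (φ.1.1 x) = x
                rw [hφx, MulEquiv.symm_apply_eq, hφ₀.2]
            exact fun y hy => hle hy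
          · intro a b hab
            exact Subtype.ext (Subtype.ext (mul_left_cancel (congrArg Subtype.val hab)))
      · rw [mul_comm (n - 2 ^ i)]
        exact Nat.mul_le_mul_left _ hcard
  have h := key (g - 0) ⊥ 0 rfl (by simp)
  rw [autBound, Finset.range_eq_Ico]
  refine le_trans ?_ h
  refine (Nat.card_congr (Equiv.subtypeUnivEquiv ?_).symm).le
  intro φ x hx
  rw [mem_bot.1 hx, map_one]

theorem autBound_le (n : ℕ) : autBound n ≤ n ^ Nat.log 2 n := by
  refine le_trans (Finset.prod_le_prod' fun i _ => Nat.sub_le n (2 ^ i)) ?_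
  simp

theorem mul_autBound_le (n : ℕ) (hn : 1 ≤ n) : (n * autBound n) ^ 3 ≤ 24 ^ (n - 1) := by
  rcases lt_or_ge n 64 with h | h
  · clear hn
    revert n
    decide +kernel
  set g := Nat.log 2 n with hg
  have hg6 : 6 ≤ g := Nat.le_log_of_pow_le (by norm_num) (by simpa using h)
  have hlo : 2 ^ g ≤ n := Nat.pow_log_le_self 2 (by omega)
  have hhi : n ≤ 2 ^ (g + 1) := (Nat.lt_pow_succ_log_self (by norm_num) n).le
  have hexp : ∀ j, 6 ≤ j → 3 * ((j + 1) * (j + 1)) + 4 ≤ 4 * 2 ^ j := by
    intro j hj
    induction j, hj using Nat.le_induction with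
    | base => norm_num
    | succ j hj ih => rw [pow_succ]; nlinarith
  calc (n * autBound n) ^ 3 ≤ (n * n ^ g) ^ 3 :=
        Nat.pow_le_pow_left (Nat.mul_le_mul_left _ (autBound_le n)) _
    _ = n ^ ((g + 1) * 3) := by rw [← pow_succ', ← pow_mul]
    _ ≤ (2 ^ (g + 1)) ^ ((g + 1) * 3) := Nat.pow_le_pow_left hhi _
    _ = 2 ^ (3 * ((g + 1) * (g + 1))) := by rw [← pow_mul]; congr 1; ring
    _ ≤ 2 ^ (4 * (n - 1)) := by
        refine Nat.pow_le_pow_right (by norm_num) ?_
        have := hexp g hg6
        omega
    _ = 16 ^ (n - 1) := by rw [pow_mul]; norm_num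
    _ ≤ 24 ^ (n - 1) := Nat.pow_le_pow_left (by norm_num) _

universe u

/-- A solvable transitive permutation group of degree `n` has order at most `24 ^ ((n - 1) / 3)`. -/
theorem card_solvable_transitive_pow_le : ∀ (n : ℕ) {G X : Type u} [Group G] [Finite G]
    [Group.IsSolvable G] [MulAction G X] [FaithfulSMul G X] [Finite X],
    MulAction.IsPretransitive G X → Nat.card X = n → 1 ≤ n → Nat.card G ^ 3 ≤ 24 ^ (n - 1) := by
  intro n
  induction n using Nat.strong_induction_on with
  | _ n ih =>
  intro G X _ _ _ _ _ _ htr hn hn1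
  classical
  haveI : Nonempty X := (Nat.card_pos_iff.1 (by omega)).1
  rcases subsingleton_or_nontrivial G with hG | hG
  · rw [Nat.card_of_subsingleton (1 : G), one_pow]; exact Nat.one_le_pow _ _ (by norm_num)
  obtain ⟨N, hNn, hNne, -, hmin⟩ := CfsgLib.Solvable.exists_minimal_normal_le (⊤ : Subgroup G) top_ne_bot
  haveI := hNn
  obtain ⟨hNc, -⟩ := CfsgLib.Solvable.minimal_normal_elementary_abelian N hNne hmin
  haveI := hNc
  obtain ⟨x⟩ := (inferInstance : Nonempty X)
  by_cases hNt : MulAction.orbit N x = Set.univ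
  · -- regular normal subgroup
    have hfree : ∀ m ∈ N, ∀ y : X, m • y = y → m = 1 := by
      intro m hm y hy
      refine eq_of_smul_eq_smul (α := X) fun z => ?_
      obtain ⟨k, hk⟩ : ∃ k : N, k • x = z := by
        have : z ∈ MulAction.orbit N x := hNt ▸ Set.mem_univ z
        exact this
      obtain ⟨l, hl⟩ : ∃ l : N, l • x = y := by
        have : y ∈ MulAction.orbit N x := hNt ▸ Set.mem_univ y
        exact this
      have hz : z = ((k : G) * (l : G)⁻¹) • y := by
        rw [← hk, ← hl, Subgroup.smul_def, Subgroup.smul_def, smul_smul, inv_mul_cancel_right]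
      rw [hz, smul_smul, setLike_mul_comm hm (N.mul_mem k.2 (N.inv_mem l.2)), ← smul_smul, hy, one_smul]
    have hNcard : Nat.card N = n := by
      rw [← hn]
      refine Nat.card_eq_of_bijective (fun m : N => m • x) ⟨fun a b hab => ?_, fun z => ?_⟩
      · dsimp only at hab
        rw [Subgroup.smul_def, Subgroup.smul_def] at hab
        have : ((b : G)⁻¹ * a) • x = x := by rw [← smul_smul, hab, smul_smul, inv_mul_cancel, one_smul]
        exact Subtype.ext (inv_mul_eq_one.1 (hfree _ (N.mul_mem (N.inv_mem b.2) a.2) x this)).symm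
      · have : z ∈ MulAction.orbit N x := hNt ▸ Set.mem_univ z
        exact this
    have hstab : Nat.card (MulAction.stabilizer G x) ≤ autBound n := by
      refine le_trans ?_ (hNcard ▸ card_mulAut_le)
      refine Nat.card_le_card_of_injective
        ((MulAut.conjNormal (H := N)).comp (MulAction.stabilizer G x).subtype) ?_
      rw [injective_iff_map_eq_one]
      intro s hs
      refine Subtype.ext (eq_of_smul_eq_smul (α := X) fun z => ?_)
      obtain ⟨k, hk⟩ : ∃ k : N, k • x = z := by
        have : z ∈ MulAction.orbit N x := hNt ▸ Set.mem_univ z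
        exact this
      have h1 : (s : G) * k * (s : G)⁻¹ = k := by
        have h2 := congrArg (fun φ : MulAut N => ((φ k : N) : G)) hs
        simpa using h2
      have hsx : (s : G) • x = x := s.2
      show (s : G) • z = (1 : G) • z
      rw [one_smul, ← hk, Subgroup.smul_def, smul_smul, mul_inv_eq_iff_eq_mul.1 h1, ← smul_smul, hsx]
    have hGle : Nat.card G ≤ n * autBound n := by
      rw [← Subgroup.card_mul_index (MulAction.stabilizer G x), MulAction.index_stabilizer_of_transitive, hn,
        mul_comm]
      exact Nat.mul_le_mul_left _ hstab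
    exact (Nat.pow_le_pow_left hGle 3).trans (mul_autBound_le n hn1)
  -- intransitive normal subgroup: the orbits form blocks
  let B := MulAction.orbitRel.Quotient N X
  let Qm : X → B := Quotient.mk _
  have horb : ∀ (g : G) {y z : X}, (MulAction.orbitRel N X) y z → (MulAction.orbitRel N X) (g • y) (g • z) := by
    intro g y z hyz
    rw [MulAction.orbitRel_apply] at hyz ⊢
    obtain ⟨m, rfl⟩ := hyz
    exact ⟨⟨g * m * g⁻¹, hNn.conj_mem _ m.2 g⟩, by
      dsimp only
      rw [Subgroup.smul_def, Subgroup.smul_def, smul_smul, smul_smul, inv_mul_cancel_right]⟩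
  letI : MulAction G B :=
    { smul := fun g => Quotient.map (fun y => g • y) fun _ _ h => horb g h
      one_smul := fun b => Quotient.inductionOn b fun y => congrArg (Quotient.mk _) (one_smul G y)
      mul_smul := fun g g' b => Quotient.inductionOn b fun y => congrArg (Quotient.mk _) (mul_smul g g' y) }
  haveI : MulAction.IsPretransitive G B := ⟨fun a b => Quotient.inductionOn₂ a b fun y z => by
    obtain ⟨g, rfl⟩ := MulAction.exists_smul_eq G y z
    exact ⟨g, rfl⟩⟩
  let ψ := MulAction.toPermHom G B
  have hmk : ∀ (g : G) (y : X), g • (Quotient.mk (MulAction.orbitRel N X) y : B) =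
      Quotient.mk (MulAction.orbitRel N X) (g • y) := fun _ _ => rfl
  have hr1 : 1 < Nat.card B := by
    obtain ⟨y, hy⟩ : ∃ y, y ∉ MulAction.orbit N x := by
      by_contra! h; exact hNt (Set.eq_univ_of_forall h)
    rw [Finite.one_lt_card_iff_nontrivial]
    exact ⟨Quotient.mk _ y, Quotient.mk _ x, fun h => hy (Quotient.exact h)⟩
  -- the orbit sizes
  have hsize : ∀ b : B, Nat.card b.orbit * Nat.card B = n := by
    have hconst : ∀ b c : B, Nat.card b.orbit = Nat.card c.orbit := by
      intro b c
      obtain ⟨g, rfl⟩ := MulAction.exists_smul_eq G b c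
      refine Nat.card_congr (Equiv.subtypeEquiv (MulAction.toPerm g) fun y => ?_)
      rw [MulAction.orbitRel.Quotient.mem_orbit, MulAction.orbitRel.Quotient.mem_orbit,
        MulAction.toPerm_apply]
      constructor
      · intro h; rw [← h]; rfl
      · intro h
        have := congrArg (fun z : B => g⁻¹ • z) h
        simpa [inv_smul_smul, hmk] using this
    intro b
    haveI : Fintype B := Fintype.ofFinite B
    rw [← hn, Nat.card_congr (MulAction.selfEquivSigmaOrbits' N X), Nat.card_sigma,
      Finset.sum_congr rfl (fun c _ => (hconst c b)), Finset.sum_const, Finset.card_univ, smul_eq_mul,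
      ← Nat.card_eq_fintype_card, mul_comm]
  have hb2 : ∀ b : B, 2 ≤ Nat.card b.orbit := by
    intro b
    by_contra hlt
    refine hNne (eq_bot_iff.2 fun m hm => mem_bot.2 ?_)
    refine eq_of_smul_eq_smul (α := X) fun y => ?_
    have hc : Nat.card (Qm y).orbit ≤ 1 := by
      have h1 := hsize b
      have h2 := hsize (Qm y)
      have : Nat.card (Qm y).orbit = Nat.card b.orbit :=
        Nat.eq_of_mul_eq_mul_right (by omega) (h2.trans h1.symm)
      omega
    haveI := Finite.card_le_one_iff_subsingleton.1 hc
    have hy : y ∈ (Qm y).orbit := MulAction.orbitRel.Quotient.mem_orbit.2 rfl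
    have hmy : m • y ∈ (Qm y).orbit := MulAction.orbitRel.Quotient.mem_orbit.2
      (Quotient.sound ⟨⟨m, hm⟩, rfl⟩)
    simpa using congrArg Subtype.val (Subsingleton.elim (⟨_, hmy⟩ : (Qm y).orbit) ⟨_, hy⟩)
  -- the top group
  have htop : Nat.card ψ.range ^ 3 ≤ 24 ^ (Nat.card B - 1) := by
    haveI : Group.IsSolvable ψ.range := Group.isSolvable_of_surjective ψ.rangeRestrict_surjective
    haveI : MulAction.IsPretransitive ψ.range B := ⟨fun a b => by
      obtain ⟨g, hg⟩ := MulAction.exists_smul_eq G a b
      exact ⟨⟨ψ g, g, rfl⟩, hg⟩⟩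
    haveI : FaithfulSMul ψ.range B := ⟨fun {a b} h => Subtype.ext (Equiv.ext h)⟩
    refine ih (Nat.card B) ?_ inferInstance rfl (by omega)
    have := hsize (Qm x)
    have := hb2 (Qm x)
    nlinarith
  -- the kernel
  have hker : Nat.card ψ.ker ^ 3 ≤ (24 ^ (Nat.card (Qm x).orbit - 1)) ^ Nat.card B := by
    have hstab : ∀ (b : B) (g : MulAction.stabilizer G b) (y : b.orbit), (g : G) • (y : X) ∈ b.orbit := by
      intro b g y
      rw [MulAction.orbitRel.Quotient.mem_orbit]
      have h1 := MulAction.orbitRel.Quotient.mem_orbit.1 y.2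
      have h2 : (g : G) • b = b := g.2
      exact ((hmk (g : G) (y : X)).symm.trans (congrArg (fun z : B => (g : G) • z) h1)).trans h2
    let act : ∀ b : B, MulAction (MulAction.stabilizer G b) b.orbit := fun b =>
      { smul := fun g y => ⟨(g : G) • (y : X), hstab b g y⟩
        one_smul := fun y => Subtype.ext (one_smul G (y : X))
        mul_smul := fun g g' y => Subtype.ext (mul_smul (g : G) g' (y : X)) }
    let res : ∀ b : B, MulAction.stabilizer G b →* Equiv.Perm b.orbit := fun b =>
      @MulAction.toPermHom _ _ _ (act b)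
    have hpiece : ∀ b : B, Nat.card (res b).range ^ 3 ≤
        24 ^ (Nat.card (Qm x).orbit - 1) := by
      intro b
      haveI : Group.IsSolvable (res b).range := Group.isSolvable_of_surjective (res b).rangeRestrict_surjective
      haveI : MulAction.IsPretransitive (res b).range b.orbit := ⟨fun y z => by
        obtain ⟨g, hg⟩ := MulAction.exists_smul_eq G (y : X) (z : X)
        have hgs : g ∈ MulAction.stabilizer G b := by
          rw [MulAction.mem_stabilizer_iff]
          have h1 := MulAction.orbitRel.Quotient.mem_orbit.1 y.2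
          have h2 := MulAction.orbitRel.Quotient.mem_orbit.1 z.2
          rw [← h1]
          show Quotient.mk _ (g • (y : X)) = _
          rw [hg]
          exact h2.trans h1.symm
        exact ⟨⟨res b ⟨g, hgs⟩, _, rfl⟩, Subtype.ext hg⟩⟩
      haveI : FaithfulSMul (res b).range b.orbit := ⟨fun {a c} h => Subtype.ext (Equiv.ext h)⟩
      have hsz : Nat.card b.orbit = Nat.card (Qm x).orbit :=
        Nat.eq_of_mul_eq_mul_right (by omega) ((hsize b).trans (hsize _).symm)
      rw [← hsz]
      refine ih _ ?_ inferInstance rfl (by have := hb2 b; omega)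
      have := hsize b
      have := hb2 b
      nlinarith
    have hmem : ∀ (k : ψ.ker) (b : B), (k : G) ∈ MulAction.stabilizer G b := fun k b => by
      rw [MulAction.mem_stabilizer_iff]
      exact DFunLike.congr_fun (MonoidHom.mem_ker.1 k.2) b
    haveI : Fintype B := Fintype.ofFinite B
    have hle : Nat.card ψ.ker ≤ ∏ b : B, Nat.card (res b).range := by
      rw [← Nat.card_pi]
      refine Nat.card_le_card_of_injective
        (fun k b => (⟨res b ⟨k, hmem k b⟩, _, rfl⟩ : (res b).range)) fun a c hac => ?_
      refine Subtype.ext (eq_of_smul_eq_smul (α := X) fun y => ?_)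
      have h1 := congrArg (fun r => (r (Qm y)).1
        ⟨y, MulAction.orbitRel.Quotient.mem_orbit.2 rfl⟩) hac
      exact congrArg Subtype.val h1
    refine (Nat.pow_le_pow_left hle 3).trans ?_
    rw [← Finset.prod_pow]
    refine (Finset.prod_le_prod' fun b _ => hpiece b).trans ?_
    simp [Nat.card_eq_fintype_card]
  have hsplit : Nat.card G = Nat.card ψ.ker * Nat.card ψ.range := by
    rw [← Subgroup.index_ker, Subgroup.card_mul_index]
  rw [hsplit, mul_pow]
  refine (Nat.mul_le_mul hker htop).trans ?_
  rw [← pow_mul, ← pow_add]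
  refine Nat.pow_le_pow_right (by norm_num) ?_
  have h1 := hsize (Qm x)
  have h2 := hb2 (Qm x)
  rw [Nat.sub_mul, one_mul, h1]
  have : Nat.card B ≤ n := by nlinarith
  omega

end CfsgLib.SolvClass
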