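import Cfsg.Agent.Lib.SolvClass.Atoms
import Cfsg.Agent.Lib.SolvClass.PermBound

/-!
A product bound for the number of orbits times the class number of a solvable irreducible linear group.
-/

set_option autoImplicit false
set_option linter.style.haveILetI false
set_option linter.unusedSectionVars false
set_option maxHeartbeats 1000000

namespace CfsgLib.SolvClass

open Subgroup

variable {q : ℕ} [hq : Fact q.Prime] {V : Type*} [AddCommGroup V] [Module (ZMod q) V] [Finite V] [Nontrivial V]

theorem charP_end : CharP (Module.End (ZMod q) V) q :=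
  charP_of_injective_algebraMap (algebraMap (ZMod q) (Module.End (ZMod q) V)).injective q

theorem fixed_pow_of_fixed {a : Module.End (ZMod q) V} {m : ℕ} (h : a ^ (q ^ m) = a) (k : ℕ) :
    a ^ (q ^ (m * k)) = a := by
  induction k with
  | zero => simp
  | succ k ih => rw [Nat.mul_succ, pow_add, pow_mul, ih, h]

/-- In a commutative subalgebra generated by fixed elements every element is fixed. -/
theorem adjoin_fixed {s : Set (Module.End (ZMod q) V)} (hcomm : ∀ a ∈ s, ∀ b ∈ s, a * b = b * a) {m : ℕ}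
    (hfix : ∀ a ∈ s, a ^ (q ^ m) = a) :
    (∀ a ∈ Algebra.adjoin (ZMod q) s, ∀ b ∈ Algebra.adjoin (ZMod q) s, a * b = b * a) ∧
      ∀ a ∈ Algebra.adjoin (ZMod q) s, a ^ (q ^ m) = a := by
  have hc : ∀ a ∈ Algebra.adjoin (ZMod q) s, ∀ b ∈ Algebra.adjoin (ZMod q) s, a * b = b * a := by
    intro a ha b hb
    exact congrArg Subtype.val
      ((Algebra.isMulCommutative_adjoin (ZMod q) hcomm).is_comm.comm ⟨a, ha⟩ ⟨b, hb⟩)
  refine ⟨hc, fun a ha => ?_⟩
  haveI := charP_end (q := q) (V := V)
  induction ha using Algebra.adjoin_induction with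
  | mem x hx => exact hfix x hx
  | algebraMap c =>
    rw [← map_pow]
    congr 1
    induction m with
    | zero => simp
    | succ m _ => exact (ZMod.pow_card_pow c)
  | add x y hx hy h1 h2 => rw [add_pow_char_pow_of_commute (p := q) (h := hc x hx y hy), h1, h2]
  | mul x y hx hy h1 h2 => rw [(show Commute x y from hc x hx y hy).mul_pow, h1, h2]

variable {H : Type*} [Group H] [Finite H] (ρ : H →* Module.End (ZMod q) V)

theorem rho_inv_mul (h : H) : ρ h⁻¹ * ρ h = 1 := by rw [← map_mul, inv_mul_cancel, map_one]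

theorem rho_mul_inv (h : H) : ρ h * ρ h⁻¹ = 1 := by rw [← map_mul, mul_inv_cancel, map_one]

theorem rho_conj (h x : H) : ρ (h * x * h⁻¹) = ρ h * ρ x * ρ h⁻¹ := by rw [map_mul, map_mul]

theorem rho_app_inv (h : H) (v : V) : ρ h (ρ h⁻¹ v) = v := by
  rw [← Module.End.mul_apply, rho_mul_inv, Module.End.one_apply]

/-- The orbits of the nonzero vectors, as sets. -/
def orbitSets : Set (Set V) := (fun v => Set.range fun h : H => ρ h v) '' {v : V | v ≠ 0}

/-- Irreducibility of a representation. -/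
def Irr : Prop := ∀ W : Submodule (ZMod q) V, (∀ h : H, ∀ w ∈ W, ρ h w ∈ W) → W = ⊥ ∨ W = ⊤

/-- A commutative invariant subalgebra without nilpotents. -/
def GoodAlg (R : Subalgebra (ZMod q) (Module.End (ZMod q) V)) : Prop :=
  (∀ a ∈ R, ∀ b ∈ R, a * b = b * a) ∧ (∃ m, 1 ≤ m ∧ ∀ a ∈ R, a ^ (q ^ m) = a) ∧
    ∀ h : H, ∀ a ∈ R, ρ h * a * ρ h⁻¹ ∈ R

theorem card_sub_one_le : Nat.card V - 1 ≤ (orbitSets ρ).ncard * Nat.card H := by
  classical
  haveI : Fintype V := Fintype.ofFinite V
  haveI : Fintype H := Fintype.ofFinite H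
  rw [Set.ncard_eq_toFinset_card _ (Set.toFinite _)]
  refine le_trans (le_of_eq ?_) ((Finset.card_le_mul_card_image_of_maps_to
    (s := Finset.univ.filter fun v : V => v ≠ 0) (f := fun v => Set.range fun h : H => ρ h v)
    (t := (Set.toFinite (orbitSets ρ)).toFinset) ?_ (Nat.card H) fun S _ => ?_).trans (le_of_eq (mul_comm _ _)))
  · rw [Finset.filter_ne', Finset.card_erase_of_mem (Finset.mem_univ _), Finset.card_univ,
      Nat.card_eq_fintype_card]
  · intro v hv
    exact (Set.Finite.mem_toFinset _).2 ⟨v, (Finset.mem_filter.1 hv).2, rfl⟩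
  · rcases (Finset.univ.filter fun v : V => v ≠ 0).filter (fun v => (Set.range fun h : H => ρ h v) = S)
      |>.eq_empty_or_nonempty with he | ⟨v₀, hv₀⟩
    · rw [he]; simp
    · have hv₀' := (Finset.mem_filter.1 hv₀).2
      refine le_trans (Finset.card_le_card (t := Finset.univ.image fun h : H => ρ h v₀) fun v hv => ?_) ?_
      · have hv' := (Finset.mem_filter.1 hv).2
        have hmem : v ∈ Set.range fun h : H => ρ h v₀ := by
          rw [hv₀', ← hv']
          exact ⟨1, by simp⟩
        obtain ⟨h, hh⟩ := hmem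
        exact Finset.mem_image.2 ⟨h, Finset.mem_univ _, hh⟩
      · exact Finset.card_image_le.trans (by rw [Finset.card_univ, Nat.card_eq_fintype_card])

open scoped Classical in
theorem card_le_image_mul_index (S : Finset H) (C : Subgroup H) (hSC : ∀ t ∈ S, ∀ c ∈ C, c * t = t * c) :
    S.card ≤ (S.image ConjClasses.mk).card * C.index := by
  rw [mul_comm]
  refine Finset.card_le_mul_card_image_of_maps_to (fun t ht => Finset.mem_image_of_mem _ ht) C.index
    fun c _ => ?_
  rcases (S.filter fun t : H => ConjClasses.mk t = c).eq_empty_or_nonempty with he | ⟨t₀, ht₀⟩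
  · rw [he]; simp
  rw [Finset.mem_filter] at ht₀
  rw [← Nat.card_eq_finsetCard, Subgroup.index_eq_card]
  let conjT : H ⧸ C → H := Quotient.lift (fun h => h * t₀ * h⁻¹) fun a b hab => by
    obtain ⟨c, hc, rfl⟩ : ∃ c ∈ C, b = a * c :=
      ⟨a⁻¹ * b, QuotientGroup.leftRel_apply.1 hab, by rw [mul_inv_cancel_left]⟩
    rw [mul_inv_rev, mul_assoc a c, hSC _ ht₀.1 c hc]
    simp [mul_assoc]
  have hsurj : ∀ t : ↥(S.filter fun t : H => ConjClasses.mk t = c), ∃ x : H ⧸ C, conjT x = (t : H) := by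
    intro t
    obtain ⟨h, hh⟩ := isConj_iff.1 (ConjClasses.mk_eq_mk_iff_isConj.1
      (ht₀.2.trans (Finset.mem_filter.1 t.2).2.symm))
    exact ⟨QuotientGroup.mk h, hh⟩
  choose g hg using hsurj
  exact Nat.card_le_card_of_injective g fun a b hab =>
    Subtype.ext (by rw [← hg a, ← hg b, hab])

theorem card_le_classes_mul_index (T : Subgroup H) (C : Subgroup H) (hTC : ∀ t ∈ T, ∀ c ∈ C, c * t = t * c) :
    Nat.card T ≤ Nat.card (ConjClasses H) * C.index := by
  classical
  haveI : Fintype H := Fintype.ofFinite H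
  refine le_trans (le_of_eq ?_) ((card_le_image_mul_index (Finset.univ.filter fun h => h ∈ T) C
    fun t ht => hTC t (Finset.mem_filter.1 ht).2).trans (Nat.mul_le_mul_right _
      (Finset.card_le_univ _ |>.trans (le_of_eq Nat.card_eq_fintype_card.symm))))
  rw [Nat.card_eq_fintype_card, Fintype.card_subtype]

/-- The index bound used for the automorphisms of a block. -/
def psi (d : ℕ) : ℕ := (Finset.Icc 1 (d * d)).sup fun n => n * autBound n

theorem psi_le (d : ℕ) : psi d ≤ (d * d) ^ (Nat.log 2 (d * d) + 1) := by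
  refine Finset.sup_le fun n hn => ?_
  rw [Finset.mem_Icc] at hn
  calc n * autBound n ≤ n * n ^ Nat.log 2 n := Nat.mul_le_mul_left _ (autBound_le n)
    _ = n ^ (Nat.log 2 n + 1) := by rw [← pow_succ']
    _ ≤ (d * d) ^ (Nat.log 2 n + 1) := Nat.pow_le_pow_left hn.2 _
    _ ≤ _ := Nat.pow_le_pow_right (by omega) (Nat.add_le_add_right (Nat.log_mono_right hn.2) 1)

theorem eq_bot_of_isPGroup [Group.IsSolvable H] (hinj : Function.Injective ρ) (hirr : Irr ρ)
    (N : Subgroup H) [hN : N.Normal] (hNp : IsPGroup q N) : N = ⊥ := by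
  classical
  letI : MulAction N V :=
    { smul := fun h v => ρ (h : H) v
      one_smul := fun v => by show ρ ((1 : N) : H) v = v; simp
      mul_smul := fun a b v => by show ρ ((a * b : N) : H) v = ρ (a : H) (ρ (b : H) v); simp }
  let W : Submodule (ZMod q) V :=
    { carrier := {v | ∀ h ∈ N, ρ h v = v}
      add_mem' := fun {a b} ha hb h hh => by rw [map_add, ha h hh, hb h hh]
      zero_mem' := fun h _ => map_zero _
      smul_mem' := fun c v hv h hh => by rw [map_smul, hv h hh] }
  rcases hirr W (fun g w hw h hh => by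
    have h1 : ρ (g⁻¹ * h * g) w = w := hw _ (by simpa using hN.conj_mem h hh g⁻¹)
    calc ρ h (ρ g w) = ρ g (ρ g⁻¹ (ρ h (ρ g w))) := (rho_app_inv ρ g _).symm
      _ = ρ g w := by
          congr 1
          conv_rhs => rw [← h1]
          simp [map_mul]) with h | h
  · have hdiv : q ∣ Nat.card V := by
      rw [Module.natCard_eq_pow_finrank (K := ZMod q), Nat.card_zmod]
      exact dvd_pow_self _ Module.finrank_pos.ne'
    obtain ⟨b, hb, hb0⟩ := hNp.exists_fixed_point_of_prime_dvd_card_of_fixed_point V hdiv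
      (a := 0) (fun h => map_zero (ρ (h : H)))
    have : b ∈ W := fun x hx => hb ⟨x, hx⟩
    rw [h, Submodule.mem_bot] at this
    exact absurd this.symm hb0
  · refine eq_bot_iff.2 fun x hx => mem_bot.2 (hinj ?_)
    ext v
    have : v ∈ W := h ▸ Submodule.mem_top
    simpa using this x hx

section Frame

variable (R : Subalgebra (ZMod q) (Module.End (ZMod q) V))

/-- The elements centralizing `R`. -/
def centAlg : Subgroup H where
  carrier := {h | ∀ a ∈ R, ρ h * a = a * ρ h}
  one_mem' := by intro a _; simp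
  mul_mem' {x y} hx hy a ha := by rw [map_mul, mul_assoc, hy a ha, ← mul_assoc, hx a ha, mul_assoc]
  inv_mem' {x} hx a ha := by
    calc ρ x⁻¹ * a = ρ x⁻¹ * (a * ρ x) * ρ x⁻¹ := by rw [mul_assoc, mul_assoc a, rho_mul_inv, mul_one]
      _ = a * ρ x⁻¹ := by rw [← hx a ha, ← mul_assoc, rho_inv_mul, one_mul]

theorem inv_mem_alg {m : ℕ} (hm : 1 ≤ m) (hfix : ∀ a ∈ R, a ^ (q ^ m) = a) {x : H} (hx : ρ x ∈ R) :
    ρ x⁻¹ ∈ R := by
  have h2 : 2 ≤ q ^ m := le_trans hq.out.two_le (Nat.le_self_pow (by omega) q)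
  obtain ⟨k, hk⟩ : ∃ k, q ^ m = k + 2 := ⟨q ^ m - 2, by omega⟩
  have h1 := hfix _ hx
  rw [hk] at h1
  have h2 : ρ x ^ (k + 1) = 1 := by
    calc ρ x ^ (k + 1) = ρ x⁻¹ * ρ x ^ (k + 2) := by
          rw [pow_succ' _ (k + 1), ← mul_assoc, rho_inv_mul, one_mul]
      _ = 1 := by rw [h1, rho_inv_mul]
  have : ρ x⁻¹ = ρ x ^ k := by
    calc ρ x⁻¹ = ρ x⁻¹ * ρ x ^ (k + 1) := by rw [h2, mul_one]
      _ = ρ x ^ k := by rw [pow_succ' _ k, ← mul_assoc, rho_inv_mul, one_mul]
  rw [this]
  exact pow_mem hx k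

end Frame

end CfsgLib.SolvClass
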