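import Cfsg.Agent.Lib.SolvClass.Product

/-!
The numerical part of the class number bound `p / (3 log₂ p)`.
-/

set_option autoImplicit false

namespace CfsgLib.SolvClass

/-- The inequality needed for `M` blocks. -/
def Good (c d Q f M S : ℕ) : Prop := c * S ^ 2 * f ^ (2 * M) ≤ d * Q ^ M

theorem sq_bound {S n : ℕ} (h : S ^ 3 ≤ 24 ^ n) : S ^ 2 * 3 ^ n ≤ 25 ^ n := by
  refine (Nat.pow_le_pow_iff_left (show 3 ≠ 0 by norm_num)).1 ?_
  calc (S ^ 2 * 3 ^ n) ^ 3 = (S ^ 3) ^ 2 * (3 ^ n) ^ 3 := by ring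
    _ ≤ (24 ^ n) ^ 2 * (3 ^ n) ^ 3 := Nat.mul_le_mul_right _ (Nat.pow_le_pow_left h 2)
    _ = 15552 ^ n := by rw [← pow_mul, ← pow_mul, mul_comm n 2, mul_comm n 3, pow_mul, pow_mul, ← mul_pow]; norm_num
    _ ≤ 15625 ^ n := Nat.pow_le_pow_left (by norm_num) n
    _ = (25 ^ n) ^ 3 := by rw [← pow_mul, mul_comm n 3, pow_mul]; norm_num

theorem good_of_base {c d Q f : ℕ} (hstep : 25 * f ^ 2 ≤ 3 * Q) {M₀ : ℕ} (hM₀ : 1 ≤ M₀)
    (hbase : c * 25 ^ (M₀ - 1) * f ^ (2 * M₀) ≤ 3 ^ (M₀ - 1) * (d * Q ^ M₀)) {M S : ℕ} (hM : M₀ ≤ M)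
    (hS : S ^ 3 ≤ 24 ^ (M - 1)) : Good c d Q f M S := by
  have key : ∀ M, M₀ ≤ M → c * 25 ^ (M - 1) * f ^ (2 * M) ≤ 3 ^ (M - 1) * (d * Q ^ M) := by
    intro M hM
    induction M, hM using Nat.le_induction with
    | base => exact hbase
    | succ M hM ih =>
      calc c * 25 ^ (M + 1 - 1) * f ^ (2 * (M + 1)) = c * 25 ^ (M - 1) * f ^ (2 * M) * (25 * f ^ 2) := by
            rw [show M + 1 - 1 = M - 1 + 1 by omega, pow_succ, show 2 * (M + 1) = 2 * M + 2 by ring, pow_add]; ring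
        _ ≤ 3 ^ (M - 1) * (d * Q ^ M) * (3 * Q) := Nat.mul_le_mul ih hstep
        _ = 3 ^ (M + 1 - 1) * (d * Q ^ (M + 1)) := by
            rw [show M + 1 - 1 = M - 1 + 1 by omega, pow_succ 3, pow_succ Q]; ring
  unfold Good
  refine Nat.le_of_mul_le_mul_left ?_ (Nat.pow_pos (show 0 < 3 by norm_num) (n := M - 1))
  calc 3 ^ (M - 1) * (c * S ^ 2 * f ^ (2 * M)) = c * (S ^ 2 * 3 ^ (M - 1)) * f ^ (2 * M) := by ring
    _ ≤ c * 25 ^ (M - 1) * f ^ (2 * M) := Nat.mul_le_mul_right _ (Nat.mul_le_mul_left _ (sq_bound hS))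
    _ ≤ 3 ^ (M - 1) * (d * Q ^ M) := key M hM

theorem good_ge_three {c d Q f : ℕ} (hstep : 25 * f ^ 2 ≤ 3 * Q) (h3 : 36 * c * f ^ 6 ≤ d * Q ^ 3)
    (h4 : 15625 * c * f ^ 8 ≤ 27 * (d * Q ^ 4)) {M S : ℕ} (hM : 3 ≤ M) (hS : S ^ 3 ≤ 24 ^ (M - 1))
    (hS' : S ≤ M.factorial) : Good c d Q f M S := by
  rcases Nat.lt_or_ge M 4 with h | h
  · obtain rfl : M = 3 := by omega
    unfold Good
    have : S ≤ 6 := by simpa [Nat.factorial] using hS'
    calc c * S ^ 2 * f ^ (2 * 3) ≤ c * 6 ^ 2 * f ^ (2 * 3) :=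
          Nat.mul_le_mul_right _ (Nat.mul_le_mul_left _ (Nat.pow_le_pow_left this 2))
      _ = 36 * c * f ^ 6 := by ring
      _ ≤ _ := h3
  · refine good_of_base hstep (M₀ := 4) (by norm_num) ?_ h hS
    norm_num
    linarith

theorem psi_one : psi 1 ≤ 1 := by decide +kernel

theorem psi_le_pow {d Q : ℕ} (hd : 1 ≤ d) (hQ : 128 ≤ Q) : psi d ≤ Q ^ (d - 1) := by
  refine le_trans ?_ (Nat.pow_le_pow_left hQ _)
  rcases Nat.lt_or_ge d 2 with h | h
  · obtain rfl : d = 1 := by omega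
    simpa using psi_one
  refine (psi_le d).trans ?_
  rcases Nat.lt_or_ge d 64 with h64 | h64
  · clear hd hQ
    revert d
    have : ∀ d : ℕ, d < 64 → 2 ≤ d → (d * d) ^ (Nat.log 2 (d * d) + 1) ≤ 128 ^ (d - 1) := by decide +kernel
    intro d h h64
    exact this d h64 h
  set j := Nat.log 2 d with hj
  have hj6 : 6 ≤ j := Nat.le_log_of_pow_le (by norm_num) (by simpa using h64)
  have hlo : 2 ^ j ≤ d := Nat.pow_log_le_self 2 (by omega)
  have hhi : d < 2 ^ (j + 1) := Nat.lt_pow_succ_log_self (by norm_num) d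
  have hdd : d * d < 2 ^ (2 * j + 2) := by
    calc d * d < 2 ^ (j + 1) * 2 ^ (j + 1) := Nat.mul_lt_mul'' hhi hhi
      _ = _ := by rw [← pow_add]; congr 1; ring
  have hlog : Nat.log 2 (d * d) + 1 ≤ 2 * j + 2 := Nat.log_lt_of_lt_pow (by nlinarith) hdd
  have hexp : ∀ i, 6 ≤ i → 4 * ((i + 1) * (i + 1)) + 7 ≤ 7 * 2 ^ i := by
    intro i hi
    induction i, hi using Nat.le_induction with
    | base => norm_num
    | succ i hi ih => rw [pow_succ 2 i]; nlinarith
  calc (d * d) ^ (Nat.log 2 (d * d) + 1) ≤ (2 ^ (2 * j + 2)) ^ (Nat.log 2 (d * d) + 1) :=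
        Nat.pow_le_pow_left hdd.le _
    _ ≤ (2 ^ (2 * j + 2)) ^ (2 * j + 2) := Nat.pow_le_pow_right (Nat.pow_pos (by norm_num)) hlog
    _ ≤ 2 ^ (7 * (d - 1)) := by
        rw [← pow_mul]
        refine Nat.pow_le_pow_right (by norm_num) ?_
        have h1 := hexp j hj6
        have h2 : (2 * j + 2) * (2 * j + 2) = 4 * ((j + 1) * (j + 1)) := by ring
        omega
    _ = 128 ^ (d - 1) := by rw [pow_mul]; norm_num

theorem le_of_dvd_prime {p : ℕ} {n : ℕ} (hp : p.Prime) (hd : p ∣ n) (hn : n ≠ 0) : p ∈ n.primeFactors :=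
  Nat.mem_primeFactors.2 ⟨hp, hd, hn⟩

theorem two_cases {f p : ℕ} (hp : p.Prime) (h79 : 79 ≤ p) (hf : f ≤ 16) (hd : p ∣ 2 ^ f - 1) :
    (f = 0) ∨ (f = 7 ∧ p = 127) ∨ (f = 11 ∧ p = 89) ∨ (f = 13 ∧ p = 8191) ∨ (f = 14 ∧ p = 127) ∨
      (f = 15 ∧ p = 151) ∨ (f = 16 ∧ p = 257) := by
  rcases Nat.eq_zero_or_pos f with rfl | hf0
  · left; rfl
  have h1 : p ≤ 2 ^ f - 1 := Nat.le_of_dvd (by have := Nat.one_lt_pow (n := f) (by omega) one_lt_two; omega) hd
  have hk : ∀ a b : ℕ, p ∣ a * b → p ∣ a ∨ p ∣ b := fun a b h => (hp.dvd_mul).1 h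
  have hsmall : ∀ a : ℕ, 0 < a → a < 79 → ¬ p ∣ a := fun a h0 h h' => by
    have := Nat.le_of_dvd h0 h'; omega
  have hpr : ∀ a : ℕ, a.Prime → p ∣ a → p = a := fun a ha h => (Nat.prime_dvd_prime_iff_eq hp ha).1 h
  interval_cases f <;> norm_num at hd h1 <;> try omega
  · right; left; exact ⟨rfl, hpr _ (by norm_num) hd⟩
  · rw [show 255 = 3 * (5 * 17) by norm_num] at hd
    rcases hk _ _ hd with h | h
    · exact absurd h (hsmall _ (by norm_num) (by norm_num))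
    rcases hk _ _ h with h | h <;> exact absurd h (hsmall _ (by norm_num) (by norm_num))
  · rw [show 511 = 7 * 73 by norm_num] at hd
    rcases hk _ _ hd with h | h <;> exact absurd h (hsmall _ (by norm_num) (by norm_num))
  · rw [show 1023 = 33 * 31 by norm_num] at hd
    rcases hk _ _ hd with h | h <;> exact absurd h (hsmall _ (by norm_num) (by norm_num))
  · rw [show 2047 = 23 * 89 by norm_num] at hd
    rcases hk _ _ hd with h | h
    · exact absurd h (hsmall _ (by norm_num) (by norm_num))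
    · right; right; left; exact ⟨rfl, hpr _ (by norm_num) h⟩
  · rw [show 4095 = 45 * (7 * 13) by norm_num] at hd
    rcases hk _ _ hd with h | h
    · exact absurd h (hsmall _ (by norm_num) (by norm_num))
    rcases hk _ _ h with h | h <;> exact absurd h (hsmall _ (by norm_num) (by norm_num))
  · right; right; right; left; exact ⟨rfl, hpr _ (by norm_num) hd⟩
  · rw [show 16383 = 3 * (43 * 127) by norm_num] at hd
    rcases hk _ _ hd with h | h
    · exact absurd h (hsmall _ (by norm_num) (by norm_num))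
    rcases hk _ _ h with h | h
    · exact absurd h (hsmall _ (by norm_num) (by norm_num))
    · right; right; right; right; left; exact ⟨rfl, hpr _ (by norm_num) h⟩
  · rw [show 32767 = 7 * (31 * 151) by norm_num] at hd
    rcases hk _ _ hd with h | h
    · exact absurd h (hsmall _ (by norm_num) (by norm_num))
    rcases hk _ _ h with h | h
    · exact absurd h (hsmall _ (by norm_num) (by norm_num))
    · right; right; right; right; right; left; exact ⟨rfl, hpr _ (by norm_num) h⟩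
  · rw [show 65535 = 15 * (17 * 257) by norm_num] at hd
    rcases hk _ _ hd with h | h
    · exact absurd h (hsmall _ (by norm_num) (by norm_num))
    rcases hk _ _ h with h | h
    · exact absurd h (hsmall _ (by norm_num) (by norm_num))
    · right; right; right; right; right; right; exact ⟨rfl, hpr _ (by norm_num) h⟩

theorem three_cases {f p : ℕ} (hp : p.Prime) (h79 : 79 ≤ p) (hf : f ≤ 8) (hd : p ∣ 3 ^ f - 1) :
    f = 0 ∨ (f = 7 ∧ p = 1093) := by
  rcases Nat.eq_zero_or_pos f with rfl | hf0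
  · left; rfl
  have h1 : p ≤ 3 ^ f - 1 := Nat.le_of_dvd (by have := Nat.one_lt_pow (n := f) (by omega) (show 1 < 3 by norm_num); omega) hd
  have hk : ∀ a b : ℕ, p ∣ a * b → p ∣ a ∨ p ∣ b := fun a b h => (hp.dvd_mul).1 h
  have hsmall : ∀ a : ℕ, 0 < a → a < 79 → ¬ p ∣ a := fun a h0 h h' => by
    have := Nat.le_of_dvd h0 h'; omega
  interval_cases f <;> norm_num at hd h1 <;> try omega
  · rw [show 80 = 16 * 5 by norm_num] at hd
    rcases hk _ _ hd with h | h <;> exact absurd h (hsmall _ (by norm_num) (by norm_num))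
  · rw [show 242 = 22 * 11 by norm_num] at hd
    rcases hk _ _ hd with h | h <;> exact absurd h (hsmall _ (by norm_num) (by norm_num))
  · rw [show 728 = 56 * 13 by norm_num] at hd
    rcases hk _ _ hd with h | h <;> exact absurd h (hsmall _ (by norm_num) (by norm_num))
  · rw [show 2186 = 2 * 1093 by norm_num] at hd
    rcases hk _ _ hd with h | h
    · exact absurd h (hsmall _ (by norm_num) (by norm_num))
    · right; exact ⟨rfl, (Nat.prime_dvd_prime_iff_eq hp (by norm_num)).1 h⟩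
  · rw [show 6560 = 32 * (5 * 41) by norm_num] at hd
    rcases hk _ _ hd with h | h
    · exact absurd h (hsmall _ (by norm_num) (by norm_num))
    rcases hk _ _ h with h | h <;> exact absurd h (hsmall _ (by norm_num) (by norm_num))

theorem pow_ineq {q f : ℕ} (hq : 5 ≤ q) (hQ : 128 ≤ q ^ f) :
    25 * f ^ 2 ≤ 3 * q ^ f ∧ f ^ 6 ≤ 35 * q ^ f ∧ 15625 * f ^ 8 ≤ 34020 * (q ^ f) ^ 2 := by
  rcases Nat.lt_or_ge f 4 with hf | hf
  · have h2 := Nat.pow_le_pow_left hQ 2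
    interval_cases f
    · simp at hQ
    all_goals norm_num at hQ h2 ⊢
    all_goals omega
  · have h5 : 5 ^ f ≤ q ^ f := Nat.pow_le_pow_left hq f
    have key : ∀ i, 4 ≤ i → 25 * i ^ 2 ≤ 3 * 5 ^ i ∧ i ^ 6 ≤ 35 * 5 ^ i ∧
        15625 * i ^ 8 ≤ 34020 * (5 ^ i) ^ 2 := by
      intro i hi
      induction i, hi using Nat.le_induction with
      | base => norm_num
      | succ i hi ih =>
        obtain ⟨h1, h2, h3⟩ := ih
        have e : 4 * (i + 1) ≤ 5 * i := by omega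
        refine ⟨?_, ?_, ?_⟩
        · have := Nat.pow_le_pow_left e 2
          rw [pow_succ 5]; nlinarith
        · have := Nat.pow_le_pow_left e 6
          rw [mul_pow, mul_pow] at this
          rw [pow_succ 5]; norm_num at this; nlinarith
        · have := Nat.pow_le_pow_left e 8
          rw [mul_pow, mul_pow] at this
          rw [pow_succ 5, mul_pow]; norm_num at this ⊢; nlinarith
    obtain ⟨h1, h2, h3⟩ := key f hf
    have := Nat.pow_le_pow_left h5 2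
    refine ⟨?_, ?_, ?_⟩ <;> nlinarith

theorem pow_ineq_three {f : ℕ} (hf : 9 ≤ f) :
    25 * f ^ 2 ≤ 3 * 3 ^ f ∧ f ^ 6 ≤ 35 * 3 ^ f ∧ 15625 * f ^ 8 ≤ 34020 * (3 ^ f) ^ 2 := by
  induction f, hf using Nat.le_induction with
  | base => norm_num
  | succ i hi ih =>
    obtain ⟨h1, h2, h3⟩ := ih
    have e : 9 * (i + 1) ≤ 10 * i := by omega
    refine ⟨?_, ?_, ?_⟩
    · have := Nat.pow_le_pow_left e 2
      rw [pow_succ 3]; nlinarith
    · have := Nat.pow_le_pow_left e 6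
      rw [mul_pow, mul_pow] at this
      rw [pow_succ 3]; norm_num at this; nlinarith
    · have := Nat.pow_le_pow_left e 8
      rw [mul_pow, mul_pow] at this
      rw [pow_succ 3, mul_pow]; norm_num at this ⊢; nlinarith

theorem pow_ineq_two {i : ℕ} (hi : 17 ≤ i) :
    25 * i ^ 2 ≤ 3 * 2 ^ i ∧ 36 * i ^ 6 ≤ 35 * (i - 1) ^ 2 * 2 ^ i ∧
      15625 * i ^ 8 ≤ 27 * 35 * (i - 1) ^ 2 * 4 ^ i := by
  induction i, hi using Nat.le_induction with
  | base => norm_num
  | succ i hi ih =>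
    obtain ⟨h1, h2, h3⟩ := ih
    have e : 17 * (i + 1) ≤ 18 * i := by omega
    have hm : (i - 1) ^ 2 ≤ i ^ 2 := Nat.pow_le_pow_left (by omega) 2
    have e6 := Nat.pow_le_pow_left e 6
    have e8 := Nat.pow_le_pow_left e 8
    rw [mul_pow, mul_pow] at e6 e8
    norm_num at e6 e8
    simp only [Nat.add_sub_cancel]
    refine ⟨?_, ?_, ?_⟩
    · rw [pow_succ 2]; nlinarith
    · calc 36 * (i + 1) ^ 6 ≤ 36 * (2 * i ^ 6) := by omega
        _ = 2 * (36 * i ^ 6) := by ring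
        _ ≤ 2 * (35 * (i - 1) ^ 2 * 2 ^ i) := Nat.mul_le_mul_left _ h2
        _ ≤ 2 * (35 * i ^ 2 * 2 ^ i) := by gcongr
        _ = 35 * i ^ 2 * 2 ^ (i + 1) := by ring
    · calc 15625 * (i + 1) ^ 8 ≤ 15625 * (4 * i ^ 8) := by omega
        _ = 4 * (15625 * i ^ 8) := by ring
        _ ≤ 4 * (27 * 35 * (i - 1) ^ 2 * 4 ^ i) := Nat.mul_le_mul_left _ h3
        _ ≤ 4 * (27 * 35 * i ^ 2 * 4 ^ i) := by gcongr
        _ = 27 * 35 * i ^ 2 * 4 ^ (i + 1) := by ring

theorem good_main {q f p l M S : ℕ} (hq : q.Prime) (hp : p.Prime) (h79 : 79 ≤ p) (hQ : 128 ≤ q ^ f)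
    (hl : 6 ≤ l) (hhi : p < 2 ^ (l + 1)) (hlo : 2 ^ l ≤ p) (hM : 1 ≤ M) (hfM : 3 * l + 1 ≤ f * M) (hd : p ∣ q ^ f - 1)
    (hex : ¬ (q = 2 ∧ f = 7 ∧ p = 127)) (hex' : ¬ (q = 2 ∧ f = 13 ∧ p = 8191))
    (hS3 : S ^ 3 ≤ 24 ^ (M - 1)) (hSf : S ≤ M.factorial) :
    Good (p ^ 2) (35 * l ^ 2) (q ^ f) f M S := by
  have hpQ : p ≤ q ^ f := le_trans (Nat.le_of_dvd (by omega) hd) (Nat.sub_le _ _)
  have h2f : 2 ^ f ≤ q ^ f := Nat.pow_le_pow_left hq.two_le f
  have hl2 : 36 ≤ l ^ 2 := by nlinarith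
  have hp2 : p ^ 2 ≤ 4 * 4 ^ l := by
    calc p ^ 2 ≤ (2 ^ (l + 1)) ^ 2 := Nat.pow_le_pow_left hhi.le 2
      _ = 4 * 4 ^ l := by rw [← pow_mul, show (4 : ℕ) = 2 ^ 2 by norm_num, ← pow_mul, ← pow_add]; congr 1; ring
  rcases (show M = 1 ∨ M = 2 ∨ 3 ≤ M by omega) with rfl | rfl | hM3
  · -- one block
    have hS1 : S ≤ 1 := by simpa using hSf
    obtain ⟨j, rfl⟩ : ∃ j, f = 2 * l + j := ⟨f - 2 * l, by omega⟩
    have hj : 9 * j ^ 2 ≤ 315 * 2 ^ j := by
      clear * - hl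
      induction j with
      | zero => norm_num
      | succ j ih =>
        rcases Nat.lt_or_ge j 3 with h | h
        · interval_cases j <;> norm_num
        · rw [pow_succ 2 j]; nlinarith
    have hfj : (2 * l + j) ^ 2 ≤ 9 * j ^ 2 := by
      calc (2 * l + j) ^ 2 ≤ (3 * j) ^ 2 := Nat.pow_le_pow_left (by omega) 2
        _ = 9 * j ^ 2 := by ring
    have hQ' : 4 ^ l * 2 ^ j ≤ q ^ (2 * l + j) := by
      refine le_trans (le_of_eq ?_) h2f
      rw [pow_add, pow_mul]; norm_num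
    unfold Good
    calc p ^ 2 * S ^ 2 * (2 * l + j) ^ (2 * 1) ≤ 4 * 4 ^ l * 1 ^ 2 * (315 * 2 ^ j) :=
          Nat.mul_le_mul (Nat.mul_le_mul hp2 (Nat.pow_le_pow_left hS1 2)) (by simpa using hfj.trans hj)
      _ = 35 * 36 * (4 ^ l * 2 ^ j) := by ring
      _ ≤ 35 * l ^ 2 * (q ^ (2 * l + j)) ^ 1 := by rw [pow_one]; gcongr
  · -- two blocks
    have hS2 : S ≤ 2 := by simpa [Nat.factorial] using hSf
    obtain ⟨j, hj⟩ : ∃ j, 2 * f = 2 * l + j := ⟨2 * f - 2 * l, by omega⟩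
    have hkey : 16 * f ^ 4 ≤ 1260 * 2 ^ j := by
      rcases Nat.lt_or_ge j 9 with h | h
      · have hj8 : j = 8 := by omega
        have hf11 : f ≤ 11 := by omega
        calc 16 * f ^ 4 ≤ 16 * 11 ^ 4 := Nat.mul_le_mul_left _ (Nat.pow_le_pow_left hf11 4)
          _ ≤ 1260 * 2 ^ j := by rw [hj8]; norm_num
      · calc 16 * f ^ 4 = (2 * f) ^ 4 := by ring
          _ ≤ (3 * j) ^ 4 := Nat.pow_le_pow_left (by omega) 4
          _ ≤ 1260 * 2 ^ j := by
              clear * - h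
              induction j, h using Nat.le_induction with
              | base => norm_num
              | succ j hj ih =>
                have := Nat.pow_le_pow_left (show 9 * (3 * (j + 1)) ≤ 10 * (3 * j) by omega) 4
                rw [mul_pow, mul_pow 10] at this
                norm_num at this
                rw [pow_succ 2 j]; omega
    have hQ' : 4 ^ l * 2 ^ j ≤ (q ^ f) ^ 2 := by
      refine le_trans (le_of_eq ?_) (Nat.pow_le_pow_left h2f 2)
      rw [← pow_mul, mul_comm f 2, hj, pow_add, pow_mul]; norm_num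
    unfold Good
    calc p ^ 2 * S ^ 2 * f ^ (2 * 2) ≤ 4 * 4 ^ l * 2 ^ 2 * f ^ (2 * 2) :=
          Nat.mul_le_mul_right _ (Nat.mul_le_mul hp2 (Nat.pow_le_pow_left hS2 2))
      _ = 4 ^ l * (16 * f ^ 4) := by ring
      _ ≤ 4 ^ l * (1260 * 2 ^ j) := Nat.mul_le_mul_left _ hkey
      _ = 35 * 36 * (4 ^ l * 2 ^ j) := by ring
      _ ≤ 35 * l ^ 2 * (q ^ f) ^ 2 := by gcongr
  · -- at least three blocks
    have viaQ : 25 * f ^ 2 ≤ 3 * q ^ f → f ^ 6 ≤ 35 * q ^ f → 15625 * f ^ 8 ≤ 34020 * (q ^ f) ^ 2 →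
        Good (p ^ 2) (35 * l ^ 2) (q ^ f) f M S := by
      intro h1 h2 h3
      refine good_ge_three h1 ?_ ?_ hM3 hS3 hSf
      · calc 36 * p ^ 2 * f ^ 6 ≤ 36 * (q ^ f) ^ 2 * (35 * q ^ f) := by gcongr
          _ = 35 * 36 * (q ^ f) ^ 3 := by ring
          _ ≤ _ := by gcongr
      · calc 15625 * p ^ 2 * f ^ 8 = p ^ 2 * (15625 * f ^ 8) := by ring
          _ ≤ (q ^ f) ^ 2 * (34020 * (q ^ f) ^ 2) := by gcongr
          _ = 27 * (35 * 36 * (q ^ f) ^ 4) := by ring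
          _ ≤ _ := by gcongr
    rcases Nat.lt_or_ge q 5 with hq5 | hq5
    swap
    · obtain ⟨h1, h2, h3⟩ := pow_ineq hq5 hQ
      exact viaQ h1 h2 h3
    interval_cases q
    · exact absurd hq (by norm_num)
    · exact absurd hq (by norm_num)
    · -- q = 2
      rcases Nat.lt_or_ge f 17 with hf | hf
      · rcases two_cases hp h79 (by omega) hd with rfl | ⟨rfl, rfl⟩ | ⟨rfl, rfl⟩ | ⟨rfl, rfl⟩ | ⟨rfl, rfl⟩ |
          ⟨rfl, rfl⟩ | ⟨rfl, rfl⟩
        · simp at hQ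
        · exact absurd ⟨rfl, rfl, rfl⟩ hex
        · refine good_ge_three (by norm_num) ?_ ?_ hM3 hS3 hSf <;> norm_num <;> nlinarith
        · exact absurd ⟨rfl, rfl, rfl⟩ hex'
        all_goals refine good_ge_three (by norm_num) ?_ ?_ hM3 hS3 hSf <;> norm_num <;> nlinarith
      obtain ⟨h1, h2, h3⟩ := pow_ineq_two hf
      have hlf : l + 1 ≤ f := by
        have : 2 ^ l < 2 ^ f := lt_of_le_of_lt hlo (by have := Nat.le_of_dvd (by omega) hd; omega)
        exact (Nat.pow_lt_pow_iff_right (by norm_num)).1 this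
      have hpf : p * (f - 1) ≤ 2 ^ f * l := by
        obtain ⟨k, rfl⟩ : ∃ k, f = l + 1 + k := ⟨f - (l + 1), by omega⟩
        have hk : l + k ≤ l * 2 ^ k := by
          clear * - hl
          induction k with
          | zero => simp
          | succ k ih =>
            have : 1 ≤ 2 ^ k := Nat.one_le_two_pow
            rw [pow_succ]; nlinarith
        calc p * (l + 1 + k - 1) ≤ 2 ^ (l + 1) * (l * 2 ^ k) := by
              rw [show l + 1 + k - 1 = l + k by omega]; exact Nat.mul_le_mul hhi.le hk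
          _ = 2 ^ (l + 1 + k) * l := by rw [pow_add 2 (l + 1) k]; ring
      have hpf2 : p ^ 2 * (f - 1) ^ 2 ≤ 4 ^ f * l ^ 2 := by
        calc p ^ 2 * (f - 1) ^ 2 = (p * (f - 1)) ^ 2 := by ring
          _ ≤ (2 ^ f * l) ^ 2 := Nat.pow_le_pow_left hpf 2
          _ = 4 ^ f * l ^ 2 := by rw [mul_pow, ← pow_mul, mul_comm f 2, pow_mul]; norm_num
      refine good_ge_three h1 ?_ ?_ hM3 hS3 hSf
      · calc 36 * p ^ 2 * f ^ 6 = p ^ 2 * (36 * f ^ 6) := by ring
          _ ≤ p ^ 2 * (35 * (f - 1) ^ 2 * 2 ^ f) := Nat.mul_le_mul_left _ h2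
          _ = p ^ 2 * (f - 1) ^ 2 * (35 * 2 ^ f) := by ring
          _ ≤ 4 ^ f * l ^ 2 * (35 * 2 ^ f) := Nat.mul_le_mul_right _ hpf2
          _ = 35 * l ^ 2 * (2 ^ f) ^ 3 := by
              rw [show (4 : ℕ) ^ f = (2 ^ f) ^ 2 by rw [← pow_mul, mul_comm, pow_mul]; norm_num]; ring
      · calc 15625 * p ^ 2 * f ^ 8 = p ^ 2 * (15625 * f ^ 8) := by ring
          _ ≤ p ^ 2 * (27 * 35 * (f - 1) ^ 2 * 4 ^ f) := Nat.mul_le_mul_left _ h3
          _ = p ^ 2 * (f - 1) ^ 2 * (27 * 35 * 4 ^ f) := by ring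
          _ ≤ 4 ^ f * l ^ 2 * (27 * 35 * 4 ^ f) := Nat.mul_le_mul_right _ hpf2
          _ = 27 * (35 * l ^ 2 * (2 ^ f) ^ 4) := by
              rw [show (4 : ℕ) ^ f = (2 ^ f) ^ 2 by rw [← pow_mul, mul_comm, pow_mul]; norm_num]; ring
    · -- q = 3
      rcases Nat.lt_or_ge f 9 with hf | hf
      · rcases three_cases hp h79 (by omega) hd with rfl | ⟨rfl, rfl⟩
        · simp at hQ
        · refine good_ge_three (by norm_num) ?_ ?_ hM3 hS3 hSf <;> norm_num <;> nlinarith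
      · obtain ⟨h1, h2, h3⟩ := pow_ineq_three hf
        exact viaQ h1 h2 h3
    · exact absurd hq (by norm_num)

/-- The class number bound in numerical form: `x` orbits and `y` classes. -/
theorem numeric {q p k f d M S x y : ℕ} (hq : q.Prime) (hp : p.Prime) (h79 : 79 ≤ p)
    (hk : 1 ≤ k) (hf : 1 ≤ f) (hd : 1 ≤ d) (hM : 1 ≤ M) (hpd : p ∣ q ^ f - 1)
    (hS3 : S ^ 3 ≤ 24 ^ (M - 1)) (hSf : S ≤ M.factorial) (hx : M ≤ x)
    (hy : 1 ≤ y) (hyA : p ^ k - 1 ≤ (y - 1) * (f * M) ^ k)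
    (hxy : q ^ (f * d * M) - 1 ≤ x * y * (S * f ^ M) ^ 2 * psi d ^ M) :
    p ≤ 3 * Nat.log 2 p * (x + y) ∨ (p = 8191 ∧ 211 ≤ x + y) := by
  set l := Nat.log 2 p with hl
  set L := f * M with hL
  have hl6 : 6 ≤ l := Nat.le_log_of_pow_le (by norm_num) (by omega)
  have hlo : 2 ^ l ≤ p := Nat.pow_log_le_self 2 hp.ne_zero
  have hhi : p < 2 ^ (l + 1) := Nat.lt_pow_succ_log_self (by norm_num) p
  have hl3 : 3 * l ≤ p := by
    have : ∀ i, 6 ≤ i → 3 * i ≤ 2 ^ i := by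
      intro i hi
      induction i, hi using Nat.le_induction with
      | base => norm_num
      | succ i hi ih => rw [pow_succ]; omega
    exact (this l hl6).trans hlo
  have hL1 : 1 ≤ L := Nat.mul_pos hf hM
  have hcl : L ≤ p → p - 1 ≤ (y - 1) * L := by
    intro hLp
    refine Nat.le_of_mul_le_mul_right ?_ (Nat.pow_pos hL1 (n := k - 1))
    calc (p - 1) * L ^ (k - 1) ≤ (p - 1) * p ^ (k - 1) := Nat.mul_le_mul_left _ (Nat.pow_le_pow_left hLp _)
      _ = p ^ k - p ^ (k - 1) := by rw [Nat.sub_mul, one_mul, ← pow_succ', Nat.sub_add_cancel hk]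
      _ ≤ p ^ k - 1 := by have := Nat.one_le_pow (k - 1) p hp.pos; omega
      _ ≤ (y - 1) * L ^ k := hyA
      _ = (y - 1) * L * L ^ (k - 1) := by rw [mul_assoc, ← pow_succ', Nat.sub_add_cancel hk]
  obtain ⟨y', rfl⟩ : ∃ y', y = y' + 1 := ⟨y - 1, by omega⟩
  simp only [Nat.add_sub_cancel] at hcl
  by_cases hsmall : L ≤ 3 * l
  · left
    have h1 := hcl (hsmall.trans hl3)
    have h2 : (y' + 1) * L ≤ (y' + 1) * (3 * l) := Nat.mul_le_mul_left _ hsmall
    have h3 : (y' + 1) * L = y' * L + L := by ring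
    have h4 : (y' + 1) * (3 * l) ≤ 3 * l * (x + (y' + 1)) := by
      rw [mul_comm]; exact Nat.mul_le_mul_left _ (Nat.le_add_left _ _)
    omega
  have hQ : 128 ≤ q ^ f := by
    by_contra! hlt
    have hQ1 : 1 < q ^ f := Nat.one_lt_pow (by omega) hq.one_lt
    obtain ⟨c, hc⟩ := hpd
    have hc1 : c = 1 := by
      rcases c with _ | _ | c
      · omega
      · rfl
      · exfalso
        have : p * 2 ≤ p * (c + 1 + 1) := Nat.mul_le_mul_left _ (by omega)
        omega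
    subst hc1
    have hodd : p % 2 = 1 := Nat.odd_iff.1 (hp.odd_of_ne_two (by omega))
    have h2 : q = 2 := by
      by_contra h
      have := Nat.odd_iff.1 ((hq.odd_of_ne_two h).pow (n := f))
      omega
    subst h2
    rcases Nat.lt_or_ge f 7 with hf7 | hf7
    · have : 2 ^ f ≤ 2 ^ 6 := Nat.pow_le_pow_right (by norm_num) (by omega)
      omega
    · have : 2 ^ 7 ≤ 2 ^ f := Nat.pow_le_pow_right (by norm_num) hf7
      omega
  -- remove the dimension
  have hZ : (q ^ f) ^ M - 1 ≤ x * (y' + 1) * (S * f ^ M) ^ 2 := by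
    have hpsi : psi d ^ M ≤ (q ^ f) ^ ((d - 1) * M) := by
      rw [pow_mul]; exact Nat.pow_le_pow_left (psi_le_pow hd hQ) M
    have h1 := hxy.trans (Nat.mul_le_mul_left _ hpsi)
    rw [show f * d * M = f * ((d - 1) * M + M) by
      rw [← Nat.succ_mul, Nat.succ_eq_add_one, Nat.sub_add_cancel hd, mul_assoc], pow_mul, pow_add] at h1
    set W := (q ^ f) ^ ((d - 1) * M) with hW
    set U := x * (y' + 1) * (S * f ^ M) ^ 2 with hU
    have hW1 : 1 ≤ W := Nat.one_le_pow _ _ (by omega)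
    by_contra! hlt
    have h2 : (U + 2) * W ≤ (q ^ f) ^ M * W := Nat.mul_le_mul_right _ (by omega)
    have h3 : W * (q ^ f) ^ M = (q ^ f) ^ M * W := mul_comm _ _
    rw [add_mul] at h2
    omega
  by_cases hex : q = 2 ∧ f = 7 ∧ p = 127
  · left
    obtain ⟨rfl, rfl, rfl⟩ := hex
    have hl6' : l = 6 := by rw [hl]; decide +kernel
    rw [hl6'] at hsmall ⊢
    rcases Nat.lt_or_ge M 7 with h7 | h7
    · have h1 := hcl (by omega)
      rw [hL] at h1 hsmall
      interval_cases M <;> omega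
    · omega
  by_cases hex' : q = 2 ∧ f = 13 ∧ p = 8191
  · right
    obtain ⟨rfl, rfl, rfl⟩ := hex'
    refine ⟨rfl, ?_⟩
    have hl12 : l = 12 := by rw [hl]; decide +kernel
    rw [hl12] at hsmall
    rcases (show M = 3 ∨ M = 4 ∨ 5 ≤ M by omega) with rfl | rfl | h5
    · have h1 := hcl (by omega)
      rw [hL] at h1
      omega
    · have h1 := hcl (by omega)
      rw [hL] at h1
      by_contra! hlt
      have hx52 : x ≤ 51 := by omega
      have hS24 : S ≤ 24 := by simpa [Nat.factorial] using hSf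
      have hU : (2 ^ 13) ^ 4 - 1 ≤ x * (y' + 1) * (24 * 13 ^ 4) ^ 2 :=
        hZ.trans (Nat.mul_le_mul_left _ (Nat.pow_le_pow_left (Nat.mul_le_mul_right _ hS24) 2))
      have hxy2 : x * (y' + 1) ≤ 8400 := by nlinarith
      norm_num at hU
      omega
    · have hg : Good 44521 3 (2 ^ 13) 13 M S := good_of_base (by norm_num) (M₀ := 5) (by norm_num) (by norm_num) h5 hS3
      by_contra! hlt
      unfold Good at hg
      have h4 : 4 * (x * (y' + 1)) ≤ 44100 := by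
        have := Nat.pow_le_pow_left (show x + (y' + 1) ≤ 210 by omega) 2
        nlinarith [sq_nonneg ((x : ℤ) - (y' + 1))]
      have h5' : (S * 13 ^ M) ^ 2 = S ^ 2 * 13 ^ (2 * M) := by rw [mul_pow, ← pow_mul, mul_comm M 2]
      rw [h5'] at hZ
      have hbig : 2 ≤ (2 ^ 13) ^ M := le_trans (by norm_num) (Nat.pow_le_pow_right (by norm_num) hM)
      have h6 : 4 * (x * (y' + 1)) * (S ^ 2 * 13 ^ (2 * M)) ≤ 44100 * (S ^ 2 * 13 ^ (2 * M)) :=
        Nat.mul_le_mul_right _ h4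
      have h7 : 44521 * (S ^ 2 * 13 ^ (2 * M)) ≤ 3 * (2 ^ 13) ^ M := by rw [← mul_assoc]; exact hg
      have h8 : 4 * (x * (y' + 1) * (S ^ 2 * 13 ^ (2 * M))) =
          4 * (x * (y' + 1)) * (S ^ 2 * 13 ^ (2 * M)) := by ring
      generalize (S ^ 2 * 13 ^ (2 * M)) = Z at *
      generalize ((2 : ℕ) ^ 13) ^ M = B at *
      generalize x * (y' + 1) * Z = W at *
      generalize 4 * (x * (y' + 1)) * Z = W' at *
      omega
  left
  have hg := good_main hq hp h79 hQ hl6 hhi hlo hM (by omega) hpd hex hex' hS3 hSf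
  unfold Good at hg
  have hB : 36 ≤ (q ^ f) ^ M := le_trans (by omega) (Nat.le_self_pow (by omega) (q ^ f))
  set Z := (S * f ^ M) ^ 2 with hZdef
  set B := (q ^ f) ^ M with hBdef
  have hg' : p ^ 2 * Z ≤ 36 * l ^ 2 * (B - 1) := by
    have e : p ^ 2 * Z = p ^ 2 * S ^ 2 * f ^ (2 * M) := by rw [hZdef, mul_pow, ← pow_mul, mul_comm M 2]; ring
    rw [e]
    refine hg.trans ?_
    have : 35 * B ≤ 36 * (B - 1) := by omega
    calc 35 * l ^ 2 * B = l ^ 2 * (35 * B) := by ring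
      _ ≤ l ^ 2 * (36 * (B - 1)) := Nat.mul_le_mul_left _ this
      _ = _ := by ring
  have hmain : p ^ 2 ≤ 36 * l ^ 2 * (x * (y' + 1)) := by
    have hZpos : 0 < Z := by
      rcases Nat.eq_zero_or_pos Z with h0 | h0
      · exfalso
        rw [h0, mul_zero] at hZ
        omega
      · exact h0
    refine Nat.le_of_mul_le_mul_right ?_ hZpos
    calc p ^ 2 * Z ≤ 36 * l ^ 2 * (B - 1) := hg'
      _ ≤ 36 * l ^ 2 * (x * (y' + 1) * Z) := Nat.mul_le_mul_left _ hZ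
      _ = _ := by ring
  refine (Nat.pow_le_pow_iff_left (show 2 ≠ 0 by norm_num)).1 (hmain.trans ?_)
  have : 4 * (x * (y' + 1)) ≤ (x + (y' + 1)) ^ 2 := by nlinarith [sq_nonneg ((x : ℤ) - (y' + 1))]
  calc 36 * l ^ 2 * (x * (y' + 1)) = 9 * l ^ 2 * (4 * (x * (y' + 1))) := by ring
    _ ≤ 9 * l ^ 2 * (x + (y' + 1)) ^ 2 := Nat.mul_le_mul_left _ this
    _ = _ := by ring

end CfsgLib.SolvClass
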