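import Cfsg.Agent.Lib.SolvClass.Frame

/-!
The product bound: a solvable irreducible group has many orbits or many classes.
-/

set_option autoImplicit false
set_option linter.style.haveILetI false
set_option linter.unusedSectionVars false
set_option maxHeartbeats 1000000

namespace CfsgLib.SolvClass

open Subgroup

variable {q : ℕ} [hq : Fact q.Prime] {V : Type*} [AddCommGroup V] [Module (ZMod q) V] [Finite V] [Nontrivial V]
variable {H : Type*} [Group H] [Finite H] (ρ : H →* Module.End (ZMod q) V)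

theorem exists_maximal_goodAlg (A : Subgroup H) [hA : A.Normal] (hAc : ∀ a ∈ A, ∀ b ∈ A, a * b = b * a)
    (hcop : q.Coprime (Nat.card A)) :
    ∃ R, GoodAlg ρ R ∧ (∀ a ∈ A, ρ a ∈ R) ∧ ∀ R', GoodAlg ρ R' → R ≤ R' → R' = R := by
  haveI : Finite (Module.End (ZMod q) V) := Finite.of_injective (fun f => (f : V → V)) DFunLike.coe_injective
  haveI : Finite (Subalgebra (ZMod q) (Module.End (ZMod q) V)) :=
    Finite.of_injective (fun R => (R : Set (Module.End (ZMod q) V))) SetLike.coe_injective
  set R₀ := Algebra.adjoin (ZMod q) (ρ '' (A : Set H)) with hR₀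
  have hpow : ∀ a ∈ A, a ^ (q ^ Nat.totient (Nat.card A)) = a := by
    intro a ha
    have h1 : q ^ Nat.totient (Nat.card A) ≡ 1 [MOD Nat.card A] := Nat.ModEq.pow_totient hcop
    have h2 : q ^ Nat.totient (Nat.card A) ≡ 1 [MOD orderOf a] :=
      h1.of_dvd (A.orderOf_dvd_natCard ha)
    simpa using pow_eq_pow_iff_modEq.2 h2
  have hgood : GoodAlg ρ R₀ := by
    obtain ⟨h1, h2⟩ := adjoin_fixed (s := ρ '' (A : Set H)) (m := Nat.totient (Nat.card A))
      (by rintro _ ⟨a, ha, rfl⟩ _ ⟨b, hb, rfl⟩; rw [← map_mul, ← map_mul, hAc a ha b hb])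
      (by rintro _ ⟨a, ha, rfl⟩; rw [← map_pow, hpow a ha])
    refine ⟨h1, ⟨_, Nat.totient_pos.2 Nat.card_pos, h2⟩, fun h a ha => ?_⟩
    induction ha using Algebra.adjoin_induction with
    | mem x hx =>
      obtain ⟨b, hb, rfl⟩ := hx
      rw [← rho_conj]
      exact Algebra.subset_adjoin ⟨_, hA.conj_mem b hb h, rfl⟩
    | algebraMap c =>
      rw [← Algebra.commutes c (ρ h), mul_assoc, rho_mul_inv, mul_one]
      exact Subalgebra.algebraMap_mem _ c
    | add x y _ _ hx hy => rw [mul_add, add_mul]; exact add_mem hx hy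
    | mul x y _ _ hx hy =>
      have : ρ h * (x * y) * ρ h⁻¹ = ρ h * x * ρ h⁻¹ * (ρ h * y * ρ h⁻¹) := by
        simp only [mul_assoc]
        rw [← mul_assoc (ρ h⁻¹) (ρ h), rho_inv_mul, one_mul]
      rw [this]
      exact mul_mem hx hy
  obtain ⟨R, hR⟩ := (Set.toFinite {R | GoodAlg ρ R ∧ R₀ ≤ R}).exists_maximal ⟨R₀, hgood, le_rfl⟩
  exact ⟨R, hR.1.1, fun a ha => hR.1.2 (Algebra.subset_adjoin ⟨a, ha, rfl⟩),
    fun R' h' hle => le_antisymm (hR.2 ⟨h', hR.1.2.trans hle⟩ hle) hle⟩

theorem exists_product_bound [Group.IsSolvable H] (hinj : Function.Injective ρ) (hirr : Irr ρ)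
    (A : Subgroup H) [hAn : A.Normal] {p : ℕ} [hp : Fact p.Prime] (hpq : p ≠ q)
    (hAc : ∀ a ∈ A, ∀ b ∈ A, a * b = b * a) (hAp : ∀ a ∈ A, a ^ p = 1) (hAne : A ≠ ⊥) :
    ∃ f d M S a : ℕ, 1 ≤ f ∧ 1 ≤ d ∧ 1 ≤ M ∧ 1 ≤ a ∧ Nat.card V = q ^ (f * d * M) ∧ p ∣ q ^ f - 1 ∧
      Nat.card A = p ^ a ∧ (Subgroup.centralizer (A : Set H)).index ≤ (f * M) ^ a ∧
      S ^ 3 ≤ 24 ^ (M - 1) ∧ S ≤ M.factorial ∧ M ≤ (orbitSets ρ).ncard ∧
      q ^ (f * d * M) - 1 ≤
        (orbitSets ρ).ncard * Nat.card (ConjClasses H) * (S * f ^ M) ^ 2 * psi d ^ M := by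
  classical
  obtain ⟨k, hk⟩ := IsPGroup.iff_card.1 (show IsPGroup p A from fun x => ⟨1, by
    rw [pow_one]; exact Subtype.ext (hAp _ x.2)⟩)
  have hk1 : 1 ≤ k := by
    rcases Nat.eq_zero_or_pos k with rfl | h
    · exact absurd (Subgroup.card_eq_one.1 (by simpa using hk)) hAne
    · exact h
  obtain ⟨R, ⟨hcomm, ⟨m, hm, hfix⟩, hinv⟩, hAR, hmax⟩ := exists_maximal_goodAlg ρ A hAc
    (by rw [hk]; exact Nat.Coprime.pow_right _ ((Nat.coprime_primes hq.out hp.out).2 (Ne.symm hpq)))
  letI : CommRing R := { (inferInstance : Ring R) with mul_comm := fun a b => Subtype.ext (hcomm _ a.2 _ b.2) }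
  haveI : Finite (Module.End (ZMod q) V) := Finite.of_injective (fun f => (f : V → V)) DFunLike.coe_injective
  haveI : Finite R := Finite.of_injective _ Subtype.val_injective
  have hN : 2 ≤ q ^ m := le_trans hq.out.two_le (Nat.le_self_pow (by omega) q)
  have hfixR : ∀ r : R, r ^ (q ^ m) = r := fun r => Subtype.ext (by rw [SubmonoidClass.coe_pow]; exact hfix _ r.2)
  -- the action on the algebra
  let conjR : H → R →ₐ[ZMod q] R := fun h =>
    { toFun := fun r => ⟨ρ h * (r : Module.End (ZMod q) V) * ρ h⁻¹, hinv h _ r.2⟩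
      map_one' := Subtype.ext (by show ρ h * 1 * ρ h⁻¹ = 1; rw [mul_one, rho_mul_inv])
      map_mul' := fun r s => Subtype.ext (by
        show ρ h * ((r : Module.End (ZMod q) V) * s) * ρ h⁻¹ =
          ρ h * r * ρ h⁻¹ * (ρ h * s * ρ h⁻¹)
        simp only [mul_assoc]
        rw [← mul_assoc (ρ h⁻¹) (ρ h), rho_inv_mul, one_mul])
      map_zero' := Subtype.ext (by show ρ h * 0 * ρ h⁻¹ = 0; simp)
      map_add' := fun r s => Subtype.ext (by
        show ρ h * ((r : Module.End (ZMod q) V) + s) * ρ h⁻¹ = ρ h * r * ρ h⁻¹ + ρ h * s * ρ h⁻¹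
        rw [mul_add, add_mul])
      commutes' := fun c => Subtype.ext (by
        show ρ h * algebraMap (ZMod q) (Module.End (ZMod q) V) c * ρ h⁻¹ = _
        rw [← Algebra.commutes c (ρ h), mul_assoc, rho_mul_inv, mul_one]; rfl) }
  have hconj_mul : ∀ (g h : H) (r : R), conjR (g * h) r = conjR g (conjR h r) := fun g h r => Subtype.ext (by
    show ρ (g * h) * (r : Module.End (ZMod q) V) * ρ (g * h)⁻¹ = ρ g * (ρ h * r * ρ h⁻¹) * ρ g⁻¹
    rw [mul_inv_rev, map_mul, map_mul]; simp only [mul_assoc])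
  have hconj_one : ∀ r : R, conjR 1 r = r := fun r => Subtype.ext (by
    show ρ 1 * (r : Module.End (ZMod q) V) * ρ 1⁻¹ = r; simp)
  -- atoms
  let P := {e : R // IsAtomI e}
  haveI : Fintype P := Fintype.ofFinite P
  have hact : ∀ (h : H) (e : R), IsAtomI e → IsAtomI (conjR h e) := by
    intro h e he
    refine ⟨by rw [← map_mul, he.1], fun h0 => he.2.1 ?_, fun x hx hxe => ?_⟩
    · have := congrArg (conjR h⁻¹) h0
      rwa [map_zero, ← hconj_mul, inv_mul_cancel, hconj_one] at this
    · have h1 : conjR h⁻¹ x * e = conjR h⁻¹ x := by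
        conv_rhs => rw [← hxe, map_mul, ← hconj_mul, inv_mul_cancel, hconj_one]
      rcases he.2.2 (conjR h⁻¹ x) (by rw [← map_mul, hx]) h1 with h2 | h2
      · left
        have := congrArg (conjR h) h2
        rwa [map_zero, ← hconj_mul, mul_inv_cancel, hconj_one] at this
      · right
        have := congrArg (conjR h) h2
        rwa [← hconj_mul, mul_inv_cancel, hconj_one] at this
  letI : MulAction H P :=
    { smul := fun h e => ⟨conjR h e.1, hact h e.1 e.2⟩
      one_smul := fun e => Subtype.ext (hconj_one e.1)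
      mul_smul := fun g h e => Subtype.ext (hconj_mul g h e.1) }
  have hsmul : ∀ (h : H) (e : P), ((h • e : P) : R) = conjR h e.1 := fun _ _ => rfl
  -- projections
  let E : P → Module.End (ZMod q) V := fun e => ((e : R) : Module.End (ZMod q) V)
  have hEE : ∀ e, E e * E e = E e := fun e => congrArg Subtype.val e.2.1
  have hEne : ∀ e, E e ≠ 0 := fun e h => e.2.2.1 (Subtype.ext h)
  have hEh : ∀ (h : H) (e : P), E (h • e) = ρ h * E e * ρ h⁻¹ := fun _ _ => rfl
  have hEorth : ∀ e e' : P, e ≠ e' → E e * E e' = 0 := fun e e' h =>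
    congrArg Subtype.val (atom_mul_eq_zero e.2 e'.2 fun h' => h (Subtype.ext h'))
  have hEsum : ∑ e : P, E e = 1 := by
    have := congrArg Subtype.val (sum_atoms (R := R))
    rwa [AddSubmonoidClass.coe_finsetSum] at this
  obtain ⟨e₀⟩ : Nonempty P := by
    by_contra h
    rw [not_nonempty_iff] at h
    rw [Fintype.sum_empty] at hEsum
    obtain ⟨v, hv⟩ := exists_ne (0 : V)
    exact hv (by simpa using (LinearMap.congr_fun hEsum v).symm)
  -- transitivity
  haveI htrans : MulAction.IsPretransitive H P := by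
    refine (MulAction.isPretransitive_iff_orbit_eq_univ e₀).2 ?_
    set O := (Finset.univ : Finset P).filter (fun e => e ∈ MulAction.orbit H e₀)
    set ε := ∑ e ∈ O, E e with hε
    have hεh : ∀ h : H, ρ h * ε * ρ h⁻¹ = ε := by
      intro h
      rw [hε, Finset.mul_sum, Finset.sum_mul]
      refine Finset.sum_nbij' (fun e => h • e) (fun e => h⁻¹ • e) ?_ ?_ ?_ ?_ ?_
      · intro e he
        simp only [O, Finset.mem_filter, Finset.mem_univ, true_and, Finset.mem_coe] at he ⊢
        exact MulAction.mem_orbit_of_mem_orbit h he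
      · intro e he
        simp only [O, Finset.mem_filter, Finset.mem_univ, true_and, Finset.mem_coe] at he ⊢
        exact MulAction.mem_orbit_of_mem_orbit h⁻¹ he
      · intro e _; exact inv_smul_smul h e
      · intro e _; exact smul_inv_smul h e
      · intro e _; exact (hEh h e).symm
    have he₀O : e₀ ∈ O := Finset.mem_filter.2 ⟨Finset.mem_univ _, MulAction.mem_orbit_self e₀⟩
    have hεe₀ : ε * E e₀ = E e₀ := by
      rw [hε, Finset.sum_mul, Finset.sum_eq_single e₀]
      · exact hEE e₀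
      · intro b _ hb; exact hEorth b e₀ hb
      · intro h; exact absurd he₀O h
    rcases hirr (LinearMap.range ε) (fun h w hw => by
      obtain ⟨v, rfl⟩ := hw
      refine ⟨ρ h v, ?_⟩
      conv_lhs => rw [← hεh h]
      simp only [Module.End.mul_apply]
      rw [← Module.End.mul_apply (ρ h⁻¹), rho_inv_mul, Module.End.one_apply]) with h | h
    · exfalso
      rw [LinearMap.range_eq_bot] at h
      rw [h, zero_mul] at hεe₀
      exact hEne e₀ hεe₀.symm
    · refine Set.eq_univ_of_forall fun e => ?_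
      by_contra he
      refine hEne e (LinearMap.ext fun v => ?_)
      obtain ⟨u, rfl⟩ : v ∈ LinearMap.range ε := h ▸ Submodule.mem_top
      rw [← Module.End.mul_apply, hε, Finset.mul_sum, Finset.sum_eq_zero fun b hb => hEorth e b ?_]
      · rfl
      · intro hbe
        exact he (hbe ▸ (Finset.mem_filter.1 hb).2)
  set M := Fintype.card P with hM
  have hM1 : 1 ≤ M := Fintype.card_pos_iff.2 ⟨e₀⟩
  set f := atomDeg q (e₀ : R) with hf
  have hf1 : 1 ≤ f := one_le_atomDeg e₀.2
  have hdeg : ∀ e : P, atomDeg q (e : R) = f := by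
    intro e
    obtain ⟨h, rfl⟩ := MulAction.exists_smul_eq H e₀ e
    apply Nat.pow_right_injective hq.out.two_le
    show q ^ atomDeg q ((h • e₀ : P) : R) = q ^ f
    rw [hf, ← card_quot, ← card_quot, ← card_atom_corner (h • e₀).2, ← card_atom_corner e₀.2]
    let φh : R ≃ R :=
      ⟨conjR h, conjR h⁻¹, fun r => by rw [← hconj_mul, inv_mul_cancel, hconj_one],
        fun r => by rw [← hconj_mul, mul_inv_cancel, hconj_one]⟩
    refine (Nat.card_congr (φh.subtypeEquiv fun r => ?_)).symm
    show (e₀ : R) * r = r ↔ conjR h e₀.1 * conjR h r = conjR h r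
    rw [← map_mul]
    exact (φh.injective.eq_iff (a := (e₀ : R) * r) (b := r)).symm
  haveI hmaxI : ∀ e : P, (killIdeal (e : R)).IsMaximal := fun e => killIdeal_isMaximal e.2 hN hfixR
  letI : ∀ e : P, Field (R ⧸ killIdeal (e : R)) := fun e => Ideal.Quotient.field _
  haveI : ∀ e : P, Finite (R ⧸ killIdeal (e : R)) := fun e =>
    Finite.of_surjective _ Ideal.Quotient.mk_surjective
  have hQcard : ∀ e : P, Nat.card (R ⧸ killIdeal (e : R)) = q ^ f := fun e => by rw [card_quot (q := q), hdeg e]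
  -- the permutation image
  let ψ := MulAction.toPermHom H P
  set S := Nat.card ψ.range with hS
  have hS3 : S ^ 3 ≤ 24 ^ (M - 1) := by
    haveI : Group.IsSolvable ψ.range := Group.isSolvable_of_surjective ψ.rangeRestrict_surjective
    haveI : MulAction.IsPretransitive ψ.range P := ⟨fun a b => by
      obtain ⟨g, hg⟩ := MulAction.exists_smul_eq H a b
      exact ⟨⟨ψ g, g, rfl⟩, hg⟩⟩
    haveI : FaithfulSMul ψ.range P := ⟨fun {a b} h => Subtype.ext (Equiv.ext h)⟩
    exact card_solvable_transitive_pow_le M inferInstance Nat.card_eq_fintype_card hM1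
  have hSfac : S ≤ M.factorial := by
    rw [hS, hM, ← Fintype.card_perm, ← Nat.card_eq_fintype_card]
    exact Subgroup.card_le_card_group _
  set C := centAlg ρ R with hC
  have hCmem : ∀ h, h ∈ C ↔ ∀ a ∈ R, ρ h * a = a * ρ h := fun h => Iff.rfl
  haveI hCn : C.Normal := ⟨fun c hc g a ha => by
    have h2 := hc _ (hinv g⁻¹ a ha)
    rw [inv_inv] at h2
    calc ρ (g * c * g⁻¹) * a = ρ g * ρ c * ρ g⁻¹ * a * (ρ g * ρ g⁻¹) := by rw [rho_conj, rho_mul_inv, mul_one]
      _ = ρ g * (ρ c * (ρ g⁻¹ * a * ρ g)) * ρ g⁻¹ := by simp only [mul_assoc]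
      _ = ρ g * ((ρ g⁻¹ * a * ρ g) * ρ c) * ρ g⁻¹ := by rw [h2]
      _ = (ρ g * ρ g⁻¹) * a * (ρ g * ρ c * ρ g⁻¹) := by simp only [mul_assoc]
      _ = a * ρ (g * c * g⁻¹) := by rw [rho_mul_inv, one_mul, rho_conj]⟩
  -- index of the centralizer of the algebra
  have hHC : C.index ≤ S * f ^ M := by
    have hCK : C ≤ ψ.ker := fun c hc => by
      rw [MonoidHom.mem_ker]
      refine Equiv.ext fun e => Subtype.ext (Subtype.ext ?_)
      show ρ c * E e * ρ c⁻¹ = E e
      rw [hc _ (e : R).2, mul_assoc, rho_mul_inv, mul_one]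
    rw [← Subgroup.relIndex_mul_index hCK, Subgroup.index_ker, ← hS, mul_comm]
    refine Nat.mul_le_mul_left _ ?_
    rw [Subgroup.relIndex, Subgroup.index_eq_card]
    have hfixe : ∀ (h : ψ.ker) (e : P), conjR h e.1 = e.1 := fun h e =>
      congrArg Subtype.val (Equiv.ext_iff.1 (MonoidHom.mem_ker.1 h.2) e)
    let Φ : ψ.ker → ∀ e : P, {φ : R →ₐ[ZMod q] R ⧸ killIdeal (e : R) // φ e = 1} := fun h e =>
      ⟨(Ideal.Quotient.mkₐ (ZMod q) _).comp (conjR h), by
        show Ideal.Quotient.mk (killIdeal (e : R)) (conjR h e.1) = 1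
        rw [hfixe, ← map_one (Ideal.Quotient.mk (killIdeal (e : R))), mk_killIdeal_eq_iff, mul_one, e.2.1]⟩
    have hΦ : ∀ g h : ψ.ker, Φ g = Φ h → (QuotientGroup.mk g : ψ.ker ⧸ C.subgroupOf ψ.ker) = QuotientGroup.mk h := by
      intro g h hgh
      rw [QuotientGroup.eq, Subgroup.mem_subgroupOf]
      intro a ha
      have hall : conjR (g : H) ⟨a, ha⟩ = conjR (h : H) ⟨a, ha⟩ := by
        rw [← one_mul (conjR (g : H) _), ← one_mul (conjR (h : H) _), ← sum_atoms (R := R), Finset.sum_mul,
          Finset.sum_mul]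
        refine Finset.sum_congr rfl fun e _ => ?_
        have := congrArg (fun Ψ => (Ψ e).1 ⟨a, ha⟩) hgh
        exact mk_killIdeal_eq_iff.1 this
      have h2 := congrArg (conjR (g : H)⁻¹) hall
      rw [← hconj_mul, ← hconj_mul, inv_mul_cancel, hconj_one] at h2
      have h3 : a = ρ ((g : H)⁻¹ * h) * a * ρ ((g : H)⁻¹ * h)⁻¹ := congrArg Subtype.val h2
      show ρ ((g : H)⁻¹ * h) * a = a * ρ ((g : H)⁻¹ * h)
      conv_rhs => rw [h3]
      rw [mul_assoc, rho_inv_mul, mul_one]
    refine (Nat.card_le_card_of_injective (fun x : ψ.ker ⧸ C.subgroupOf ψ.ker => Φ x.out)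
      fun x y hxy => ?_).trans ?_
    · rw [← QuotientGroup.out_eq' x, ← QuotientGroup.out_eq' y]
      exact hΦ _ _ hxy
    · rw [Nat.card_pi]
      refine (Finset.prod_le_prod' fun e _ => card_homs_atom_le e.2 hN hfixR _).trans ?_
      rw [Finset.prod_congr rfl fun e _ => hdeg e, Finset.prod_const, Finset.card_univ]
  -- index of the centralizer of the abelian subgroup
  have hHA : (Subgroup.centralizer (A : Set H)).index ≤ (f * M) ^ k := by
    have hker : ∀ n, ∀ B : Subgroup H, B ≤ A → Nat.card B ≤ n → ∃ s : Finset P, p ^ s.card ≤ Nat.card B ∧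
        ∀ b ∈ B, (∀ e ∈ s, E e * ρ b = E e) → b = 1 := by
      intro n
      induction n with
      | zero => intro B _ hB; exact absurd hB (Nat.not_le.2 Nat.card_pos)
      | succ n ih =>
        intro B hBA hB
        by_cases h1 : ∀ b ∈ B, b = 1
        · exact ⟨∅, by rw [Finset.card_empty, pow_zero]; exact Nat.card_pos, fun b hb _ => h1 b hb⟩
        push Not at h1
        obtain ⟨b, hb, hb1⟩ := h1
        obtain ⟨e, he⟩ : ∃ e, E e * ρ b ≠ E e := by
          by_contra! h
          refine hb1 (hinj ?_)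
          rw [map_one, ← one_mul (ρ b), ← hEsum, Finset.sum_mul]
          exact Finset.sum_congr rfl fun e _ => h e
        let B' : Subgroup H :=
          { carrier := {x | x ∈ B ∧ E e * ρ x = E e}
            one_mem' := ⟨one_mem _, by simp⟩
            mul_mem' := fun {x y} hx hy => ⟨mul_mem hx.1 hy.1, by rw [map_mul, ← mul_assoc, hx.2, hy.2]⟩
            inv_mem' := fun {x} hx => ⟨inv_mem hx.1, by
              conv_lhs => rw [← hx.2]
              rw [mul_assoc, rho_mul_inv, mul_one]⟩ }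
        have hB'B : B' ≤ B := fun x hx => hx.1
        have hlt : B' < B := lt_of_le_of_ne hB'B fun h => he ((h ▸ hb : b ∈ B')).2
        obtain ⟨j', hj', hj'c⟩ := (Nat.dvd_prime_pow hp.out).1 (hk ▸ Subgroup.card_dvd_of_le (hB'B.trans hBA))
        obtain ⟨j, hj, hjc⟩ := (Nat.dvd_prime_pow hp.out).1 (hk ▸ Subgroup.card_dvd_of_le hBA)
        have hjj : j' < j := by
          by_contra! hle
          refine hlt.ne (Subgroup.eq_of_le_of_card_ge hB'B ?_)
          rw [hj'c, hjc]
          exact Nat.pow_le_pow_right hp.out.pos hle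
        have hcardlt : Nat.card B' < Nat.card B := by
          rw [hj'c, hjc]; exact Nat.pow_lt_pow_right hp.out.one_lt hjj
        obtain ⟨s, hs1, hs2⟩ := ih B' (hB'B.trans hBA) (by omega)
        refine ⟨insert e s, ?_, fun x hx hxs => hs2 x ⟨hx, hxs e (Finset.mem_insert_self _ _)⟩
          fun e' he' => hxs e' (Finset.mem_insert_of_mem he')⟩
        calc p ^ (insert e s).card ≤ p ^ (s.card + 1) :=
              Nat.pow_le_pow_right hp.out.pos (Finset.card_insert_le _ _)
          _ = p ^ s.card * p := pow_succ _ _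
          _ ≤ p ^ j' * p := Nat.mul_le_mul_right _ (hj'c ▸ hs1)
          _ ≤ Nat.card B := by rw [hjc, ← pow_succ]; exact Nat.pow_le_pow_right hp.out.pos hjj
    obtain ⟨s, hs1, hs2⟩ := hker _ A le_rfl le_rfl
    rw [hk, Nat.pow_le_pow_iff_right hp.out.one_lt] at hs1
    rw [Subgroup.index_eq_card]
    have hΦ : ∀ g h : H, (∀ e ∈ s, (Ideal.Quotient.mkₐ (ZMod q) (killIdeal (e : R))).comp (conjR g) =
        (Ideal.Quotient.mkₐ (ZMod q) (killIdeal (e : R))).comp (conjR h)) → g⁻¹ * h ∈ Subgroup.centralizer (A : Set H) := by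
      intro g h hgh
      rw [Subgroup.mem_centralizer_iff]
      intro a ha
      have h1 : (g * a * g⁻¹)⁻¹ * (h * a * h⁻¹) = 1 := by
        refine hs2 _ (A.mul_mem (A.inv_mem (hAn.conj_mem a ha g)) (hAn.conj_mem a ha h)) fun e he => ?_
        have h2 := DFunLike.congr_fun (hgh e he) ⟨ρ a, hAR a ha⟩
        have h3 : E e * ρ (g * a * g⁻¹) = E e * ρ (h * a * h⁻¹) := by
          rw [rho_conj, rho_conj]
          exact congrArg Subtype.val (mk_killIdeal_eq_iff.1 h2)
        rw [map_mul, ← mul_assoc, ← hcomm _ (hAR _ (A.inv_mem (hAn.conj_mem a ha g))) _ (e : R).2,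
          mul_assoc, ← h3, ← mul_assoc, hcomm _ (hAR _ (A.inv_mem (hAn.conj_mem a ha g))) _ (e : R).2,
          mul_assoc, rho_inv_mul, mul_one]
      rw [inv_mul_eq_one] at h1
      calc a * (g⁻¹ * h) = g⁻¹ * (g * a * g⁻¹) * h := by group
        _ = g⁻¹ * (h * a * h⁻¹) * h := by rw [h1]
        _ = g⁻¹ * h * a := by group
    refine (Nat.card_le_card_of_injective (fun (x : H ⧸ Subgroup.centralizer (A : Set H)) (e : s) =>
      (Ideal.Quotient.mkₐ (ZMod q) (killIdeal ((e : P) : R))).comp (conjR x.out)) fun x y hxy => ?_).trans ?_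
    · rw [← QuotientGroup.out_eq' x, ← QuotientGroup.out_eq' y, QuotientGroup.eq]
      exact hΦ _ _ fun e he => congrFun hxy ⟨e, he⟩
    · rw [Nat.card_pi]
      refine (Finset.prod_le_prod' (g := fun _ => f * M) fun e _ => ?_).trans ?_
      · refine (Nat.card_le_card_of_injective (β := Σ e' : P, {φ : R →ₐ[ZMod q] R ⧸ killIdeal ((e : P) : R) // φ e' = 1})
          (fun φ => ⟨⟨_, (exists_atom_of_hom φ).choose_spec.1⟩, φ, (exists_atom_of_hom φ).choose_spec.2⟩)
          fun a b hab => congrArg (fun z => z.2.1) hab).trans ?_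
        rw [Nat.card_sigma]
        refine (Finset.sum_le_sum fun e' _ => (card_homs_atom_le e'.2 hN hfixR _).trans_eq (hdeg e')).trans ?_
        simp [hM, mul_comm]
      · simp only [Finset.prod_const, Finset.card_univ, Fintype.card_coe]
        exact Nat.pow_le_pow_right (Nat.mul_pos hf1 hM1) hs1
  -- p divides q ^ f - 1
  have hpQ : p ∣ q ^ f - 1 := by
    obtain ⟨⟨a, ha⟩, ha1'⟩ := A.ne_bot_iff_exists_ne_one.1 hAne
    have ha1 : a ≠ 1 := fun h => ha1' (Subtype.ext h)
    obtain ⟨e, he⟩ : ∃ e : P, E e * ρ a ≠ E e := by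
      by_contra! h
      refine ha1 (hinj ?_)
      rw [map_one, ← one_mul (ρ a), ← hEsum, Finset.sum_mul]
      exact Finset.sum_congr rfl fun e _ => h e
    set z := Ideal.Quotient.mk (killIdeal (e : R)) ⟨ρ a, hAR a ha⟩ with hz
    have hzp : z ^ p = 1 := by
      rw [hz, ← map_pow, ← map_one (Ideal.Quotient.mk (killIdeal (e : R)))]
      congr 1
      exact Subtype.ext (by rw [SubmonoidClass.coe_pow]; show ρ a ^ p = 1; rw [← map_pow, hAp a ha, map_one])
    have hz1 : z ≠ 1 := by
      rw [hz, ← map_one (Ideal.Quotient.mk (killIdeal (e : R))), Ne, mk_killIdeal_eq_iff, mul_one]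
      exact fun h => he (congrArg Subtype.val h)
    have hord : orderOf z = p := orderOf_eq_prime hzp hz1
    haveI : Fintype (R ⧸ killIdeal (e : R)) := Fintype.ofFinite _
    have hz0 : z ≠ 0 := fun h => by rw [h, zero_pow hp.out.ne_zero] at hzp; exact zero_ne_one hzp
    rw [← hord, ← hQcard e, Nat.card_eq_fintype_card]
    exact orderOf_dvd_of_pow_eq_one (FiniteField.pow_card_sub_one_eq_one z hz0)
  -- the abelian subgroup lying in the algebra
  let T : Subgroup H :=
    { carrier := {h | ρ h ∈ R}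
      one_mem' := by simp [one_mem]
      mul_mem' := fun {x y} hx hy => by
        show ρ (x * y) ∈ R
        rw [map_mul]; exact mul_mem hx hy
      inv_mem' := fun {x} hx => inv_mem_alg ρ R hm hfix hx }
  have hTmem : ∀ h, h ∈ T ↔ ρ h ∈ R := fun h => Iff.rfl
  haveI hTn : T.Normal := ⟨fun t ht g => by
    show ρ (g * t * g⁻¹) ∈ R
    rw [rho_conj]; exact hinv g _ ht⟩
  have hTC : T ≤ C := fun t ht a ha => hcomm _ ht _ ha
  have hTc : ∀ t ∈ T, ∀ c ∈ C, c * t = t * c := fun t ht c hc => hinj (by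
    rw [map_mul, map_mul]; exact hc _ ht)
  -- a maximal subgroup of class two
  obtain ⟨X₂, hX₂⟩ := (Set.toFinite {K : Subgroup H | K.Normal ∧ T ≤ K ∧ K ≤ C ∧ ⁅K, K⁆ ≤ T}).exists_maximal
    ⟨T, hTn, le_rfl, hTC, Subgroup.commutator_le.2 fun x hx y hy => by
      rw [commutatorElement_def, hTc y hy x (hTC hx)]
      simpa [mul_assoc] using T.one_mem⟩
  obtain ⟨⟨hX₂n, hTX, hXC, hXT⟩, hX₂max⟩ := hX₂
  haveI := hX₂n
  set N₂ := X₂ with hN₂
  have hxy : ∀ x ∈ N₂, ∀ y ∈ N₂, ρ (x * y * x⁻¹ * y⁻¹) ∈ R := fun x hx y hy =>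
    hXT (Subgroup.commutator_mem_commutator hx hy)
  haveI hnil : Group.IsNilpotent N₂ := by
    refine (Subgroup.isNilpotent_iff_lowerCentralSeries N₂).2 ⟨2, ?_⟩
    rw [Subgroup.lowerCentralSeries_succ, Subgroup.lowerCentralSeries_succ, Subgroup.lowerCentralSeries_zero,
      Subgroup.commutator_eq_bot_iff_le_centralizer]
    intro t ht
    rw [Subgroup.mem_centralizer_iff]
    intro c hc
    exact hTc t (hXT ht) c (hXC hc)
  have hq2 : q.Coprime (Nat.card N₂) := by
    rw [Nat.Prime.coprime_iff_not_dvd hq.out]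
    intro hdvd
    obtain ⟨Q⟩ : Nonempty (Sylow q N₂) := inferInstance
    haveI : (Q : Subgroup N₂).Characteristic := Sylow.characteristic_of_normal _ inferInstance
    have h1 := eq_bot_of_isPGroup ρ hinj hirr ((Q : Subgroup N₂).map N₂.subtype) (Q.isPGroup'.map _)
    rw [Subgroup.map_eq_bot_iff_of_injective _ N₂.subtype_injective] at h1
    exact Q.ne_bot_of_dvd_card hdvd h1
  -- elements central in a block are scalars there
  have hscal : ∀ x ∈ N₂, ∀ e : P, (∀ y ∈ N₂, E e * (ρ x * ρ y) = E e * (ρ y * ρ x)) → E e * ρ x ∈ R := by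
    intro x hx e hxe
    set Y : Set (Module.End (ZMod q) V) :=
      {u | ∃ e : P, ∃ x ∈ N₂, (∀ y ∈ N₂, E e * (ρ x * ρ y) = E e * (ρ y * ρ x)) ∧ u = E e * ρ x} with hY
    set R' := Algebra.adjoin (ZMod q) ((R : Set (Module.End (ZMod q) V)) ∪ Y) with hR'
    have hER : ∀ (e : P) (x : H), x ∈ N₂ → E e * ρ x = ρ x * E e := fun e x hx => (hXC hx _ (e : R).2).symm
    have hcY : ∀ r ∈ R, ∀ u ∈ Y, r * u = u * r := by
      rintro r hr _ ⟨e, x, hx, -, rfl⟩
      rw [← mul_assoc, hcomm r hr _ (e : R).2, mul_assoc, ← hXC hx r hr, ← mul_assoc]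
    have hcc : ∀ a ∈ (R : Set (Module.End (ZMod q) V)) ∪ Y, ∀ b ∈ (R : Set (Module.End (ZMod q) V)) ∪ Y,
        a * b = b * a := by
      rintro a (ha | ha) b (hb | hb)
      · exact hcomm a ha b hb
      · exact hcY a ha b hb
      · exact (hcY b hb a ha).symm
      · obtain ⟨e, x, hx, hxe, rfl⟩ := ha
        obtain ⟨e', y, hy, hye, rfl⟩ := hb
        have h1 : E e * ρ x * (E e' * ρ y) = (E e * E e') * (ρ x * ρ y) := by
          rw [mul_assoc, ← mul_assoc (ρ x), ← hER e' x hx]; simp only [mul_assoc]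
        have h2 : E e' * ρ y * (E e * ρ x) = (E e' * E e) * (ρ y * ρ x) := by
          rw [mul_assoc, ← mul_assoc (ρ y), ← hER e y hy]; simp only [mul_assoc]
        rw [h1, h2]
        rcases eq_or_ne e e' with rfl | hne
        · rw [hEE, hxe y hy]
        · rw [hEorth e e' hne, hEorth e' e hne.symm, zero_mul, zero_mul]
    have hfx : ∀ a ∈ (R : Set (Module.End (ZMod q) V)) ∪ Y,
        a ^ (q ^ (m * Nat.totient (Nat.card N₂))) = a := by
      rintro a (ha | ⟨e, x, hx, -, rfl⟩)
      · exact fixed_pow_of_fixed (hfix a ha) _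
      · rw [(show Commute (E e) (ρ x) from hER e x hx).mul_pow, fixed_pow_of_fixed (hfix _ (e : R).2),
          ← map_pow]
        congr 2
        have h1 : q ^ (m * Nat.totient (Nat.card N₂)) ≡ 1 [MOD orderOf x] := by
          rw [mul_comm m, pow_mul]
          have h0 := (Nat.ModEq.pow_totient hq2).of_dvd (N₂.orderOf_dvd_natCard hx)
          simpa using h0.pow m
        simpa using pow_eq_pow_iff_modEq.2 h1
    obtain ⟨hc', hf'⟩ := adjoin_fixed hcc hfx
    have hgood : GoodAlg ρ R' := by
      refine ⟨hc', ⟨_, Nat.mul_pos hm (Nat.totient_pos.2 Nat.card_pos), hf'⟩, fun h a ha => ?_⟩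
      induction ha using Algebra.adjoin_induction with
      | mem u hu =>
        apply Algebra.subset_adjoin
        rcases hu with hu | ⟨e, x, hx, hxe, rfl⟩
        · exact Or.inl (hinv h u hu)
        · refine Or.inr ⟨h • e, h * x * h⁻¹, hX₂n.conj_mem x hx h, fun y hy => ?_, ?_⟩
          · have h0 := hxe _ (hX₂n.conj_mem y hy h⁻¹)
            rw [inv_inv] at h0
            have h1 := congrArg (fun u => ρ h * u * ρ h⁻¹) h0
            simp only [hEh, map_mul, mul_assoc] at h1 ⊢
            simpa only [← mul_assoc (ρ h⁻¹) (ρ h), rho_inv_mul, one_mul, ← mul_assoc (ρ h) (ρ h⁻¹),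
              rho_mul_inv, mul_one] using h1
          · rw [hEh, rho_conj]
            simp only [mul_assoc]
            rw [← mul_assoc (ρ h⁻¹) (ρ h), rho_inv_mul, one_mul]
      | algebraMap c =>
        rw [← Algebra.commutes c (ρ h), mul_assoc, rho_mul_inv, mul_one]
        exact Subalgebra.algebraMap_mem _ c
      | add a b _ _ ha hb => rw [mul_add, add_mul]; exact add_mem ha hb
      | mul a b _ _ ha hb =>
        have : ρ h * (a * b) * ρ h⁻¹ = ρ h * a * ρ h⁻¹ * (ρ h * b * ρ h⁻¹) := by
          simp only [mul_assoc]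
          rw [← mul_assoc (ρ h⁻¹) (ρ h), rho_inv_mul, one_mul]
        rw [this]
        exact mul_mem ha hb
    have hRR : R' = R := hmax R' hgood fun r hr => Algebra.subset_adjoin (Or.inl hr)
    rw [← hRR]
    exact Algebra.subset_adjoin (Or.inr ⟨e, x, hx, hxe, rfl⟩)
  have hXcen : ∀ x ∈ N₂, (∀ y ∈ N₂, x * y = y * x) → x ∈ T := by
    intro x hx hc
    show ρ x ∈ R
    rw [← one_mul (ρ x), ← hEsum, Finset.sum_mul]
    refine sum_mem fun e _ => hscal x hx e fun y hy => ?_
    rw [← map_mul, ← map_mul, hc y hy]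
  have hCX : ∀ c ∈ C, (∀ y ∈ N₂, c * y = y * c) → c ∈ T := by
    by_contra! hbad
    obtain ⟨c, hc, hcy, hcT⟩ := hbad
    set D := C ⊓ Subgroup.centralizer (N₂ : Set H) with hD
    haveI : D.Normal := inferInstance
    have hne : D.map (QuotientGroup.mk' T) ≠ ⊥ := by
      rw [Ne, Subgroup.map_eq_bot_iff, QuotientGroup.ker_mk']
      exact fun h => hcT (h ⟨hc, Subgroup.mem_centralizer_iff.2 fun y hy => (hcy y hy).symm⟩)
    haveI : (D.map (QuotientGroup.mk' T)).Normal :=
      Subgroup.Normal.map inferInstance _ (QuotientGroup.mk'_surjective T)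
    obtain ⟨B, hBn, hBD, hBne, hBc⟩ :=
      CfsgLib.Solvable.exists_isMulCommutative_normal_le (D.map (QuotientGroup.mk' T)) hne
    haveI := hBn
    set X := B.comap (QuotientGroup.mk' T) ⊓ D with hX
    haveI : X.Normal := inferInstance
    have hXle : X ≤ N₂ := by
      refine le_trans le_sup_right (hX₂max (⟨inferInstance, hTX.trans le_sup_left,
        sup_le hXC (inf_le_right.trans inf_le_left), ?_⟩ :
          N₂ ⊔ X ∈ {K : Subgroup H | K.Normal ∧ T ≤ K ∧ K ≤ C ∧ ⁅K, K⁆ ≤ T}) le_sup_left)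
      have hb : ∀ K L : Subgroup H, ⁅K, L⁆ ≤ T ↔ K.map (QuotientGroup.mk' T) ≤
          Subgroup.centralizer ((L.map (QuotientGroup.mk' T)) : Set (H ⧸ T)) := fun K L => by
        rw [← Subgroup.commutator_eq_bot_iff_le_centralizer, ← Subgroup.map_commutator,
          Subgroup.map_eq_bot_iff, QuotientGroup.ker_mk']
      have h1 : ⁅N₂, X⁆ ≤ T := by
        refine (Subgroup.commutator_mono le_rfl (inf_le_right.trans inf_le_right)).trans ?_
        rw [Subgroup.commutator_eq_bot_iff_le_centralizer.2 (Subgroup.le_centralizer_iff.1 le_rfl)]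
        exact bot_le
      have h2 : ⁅X, X⁆ ≤ T := by
        rw [hb]
        have hle : X.map (QuotientGroup.mk' T) ≤ B := Subgroup.map_le_iff_le_comap.2 inf_le_left
        haveI := hBc
        exact hle.trans ((Subgroup.le_centralizer_iff_isMulCommutative.2 hBc).trans
          (Subgroup.centralizer_le hle))
      rw [hb, Subgroup.map_sup]
      refine sup_le ?_ ?_ <;> rw [Subgroup.le_centralizer_iff] <;> refine sup_le ?_ ?_
      · exact Subgroup.le_centralizer_iff.1 ((hb _ _).1 hXT)
      · exact (hb _ _).1 (Subgroup.commutator_comm N₂ X ▸ h1)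
      · exact (hb _ _).1 h1
      · exact Subgroup.le_centralizer_iff.1 ((hb _ _).1 h2)
    obtain ⟨b, hb1⟩ := B.ne_bot_iff_exists_ne_one.1 hBne
    obtain ⟨d, hd, hdb⟩ := hBD b.2
    have hdX : d ∈ X := ⟨Subgroup.mem_comap.2 (hdb ▸ b.2), hd⟩
    refine hb1 (Subtype.ext ?_)
    rw [← hdb]
    exact (QuotientGroup.eq_one_iff d).2 (hXcen d (hXle hdX) fun y hy =>
      (Subgroup.mem_centralizer_iff.1 hd.2 y hy).symm)
  -- coordinates in a block
  have hER : ∀ (e : P) (x : H), x ∈ N₂ → E e * ρ x = ρ x * E e := fun e x hx => (hXC hx _ (e : R).2).symm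
  have hbasis : ∀ e : P, ∃ d : ℕ, ∃ w : Fin d → V, (∀ i, E e (w i) = w i) ∧
      Nat.card (LinearMap.range (E e)) = (q ^ f) ^ d ∧
      ∀ v ∈ LinearMap.range (E e), ∃ r : Fin d → R,
        v = ∑ i, ((r i : R) : Module.End (ZMod q) V) (w i) := by
    intro e
    let Good : ℕ → Prop := fun j => ∃ w : Fin j → V, (∀ i, E e (w i) = w i) ∧
      ∀ r : Fin j → R, (∑ i, (r i : Module.End (ZMod q) V) (w i) = 0) → ∀ i, (e : R) * r i = 0
    have hG0 : Good 0 := ⟨Fin.elim0, fun i => i.elim0, fun r _ i => i.elim0⟩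
    have hcorner : Nat.card {r : R // (e : R) * r = r} = q ^ f := by rw [card_atom_corner e.2]; exact hQcard e
    have hinjw : ∀ j (w : Fin j → V), (∀ r : Fin j → R,
        (∑ i, (r i : Module.End (ZMod q) V) (w i) = 0) → ∀ i, (e : R) * r i = 0) →
        Function.Injective (fun (r : Fin j → {r : R // (e : R) * r = r}) =>
          ∑ i, ((r i).1 : Module.End (ZMod q) V) (w i)) := by
      intro j w hw r s hrs
      funext i
      have := hw (fun i => (r i).1 - (s i).1) (by
        simp only [Subalgebra.coe_sub, LinearMap.sub_apply, Finset.sum_sub_distrib]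
        exact sub_eq_zero.2 hrs) i
      rw [mul_sub, (r i).2, (s i).2, sub_eq_zero] at this
      exact Subtype.ext this
    have hle : ∀ j, Good j → j ≤ Nat.card V := by
      rintro j ⟨w, -, hw⟩
      have h1 := Nat.card_le_card_of_injective _ (hinjw j w hw)
      rw [Nat.card_fun, Nat.card_fin, hcorner] at h1
      exact le_trans (Nat.lt_pow_self (Nat.one_lt_pow (by omega) hq.out.one_lt)).le h1
    set d := Nat.findGreatest Good (Nat.card V) with hd
    obtain ⟨w, hw1, hw2⟩ : Good d := Nat.findGreatest_spec (Nat.zero_le _) hG0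
    let Φ : (Fin d → {r : R // (e : R) * r = r}) → LinearMap.range (E e) := fun r =>
      ⟨∑ i, ((r i).1 : Module.End (ZMod q) V) (w i), ∑ i, ((r i).1 : Module.End (ZMod q) V) (w i), by
        rw [map_sum]
        refine Finset.sum_congr rfl fun i _ => ?_
        rw [← Module.End.mul_apply]
        exact congrArg (fun u : R => (u : Module.End (ZMod q) V) (w i)) (r i).2⟩
    have hsurj : Function.Surjective Φ := by
      by_contra hns
      obtain ⟨⟨v, hv⟩, hv'⟩ : ∃ v, ∀ r, Φ r ≠ v := by
        rw [Function.Surjective] at hns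
        push Not at hns
        exact hns
      have hev : E e v = v := by
        obtain ⟨u, rfl⟩ := hv
        rw [← Module.End.mul_apply, hEE]
      have hgood : Good (d + 1) := by
        refine ⟨Fin.cons v w, Fin.cases hev hw1, fun r hr => ?_⟩
        rw [Fin.sum_univ_succ] at hr
        simp only [Fin.cons_zero, Fin.cons_succ] at hr
        have h0 : (e : R) * r 0 = 0 := by
          by_contra hne
          obtain ⟨s, hs⟩ := atom_unit e.2 hN hfixR hne
          refine hv' (fun i => ⟨(e : R) * (-(s * r i.succ)), by rw [← mul_assoc, e.2.1]⟩) (Subtype.ext ?_)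
          have h2 : ((e : R) * s : R).1 ((r 0 : Module.End (ZMod q) V) v) = v := by
            rw [← Module.End.mul_apply]
            exact (congrArg (fun u : R => (u : Module.End (ZMod q) V) v)
              (show (e : R) * s * r 0 = e by rw [mul_right_comm, hs])).trans hev
          rw [eq_neg_of_add_eq_zero_left hr, map_neg, map_sum] at h2
          refine Eq.trans ?_ h2
          rw [← Finset.sum_neg_distrib]
          show ∑ i : Fin d, _ = _
          refine Finset.sum_congr rfl fun i _ => ?_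
          simp [mul_assoc]
        refine Fin.cases h0 (hw2 (fun i => r i.succ) ?_)
        have hz : (r 0 : Module.End (ZMod q) V) v = 0 := by
          rw [← hev, ← Module.End.mul_apply]
          show ((r 0 * (e : R) : R) : Module.End (ZMod q) V) v = 0
          rw [mul_comm, h0]; rfl
        rwa [hz, zero_add] at hr
      exact absurd (Nat.le_findGreatest (hle _ hgood) hgood) (by omega)
    refine ⟨d, w, hw1, ?_, fun v hv => ?_⟩
    · rw [← Nat.card_eq_of_bijective Φ ⟨fun r s h => hinjw d w hw2 (congrArg Subtype.val h), hsurj⟩,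
        Nat.card_fun, Nat.card_fin, hcorner]
    · obtain ⟨r, hr⟩ := hsurj ⟨v, hv⟩
      exact ⟨fun i => (r i).1, (congrArg Subtype.val hr).symm⟩
  choose dd ww hw1 hwcard hwspan using hbasis
  set d := dd e₀ with hd
  have hWcard : ∀ e : P, Nat.card (LinearMap.range (E e)) = Nat.card (LinearMap.range (E e₀)) := by
    intro e
    obtain ⟨h, rfl⟩ := MulAction.exists_smul_eq H e₀ e
    symm
    refine Nat.card_eq_of_bijective (fun v => ⟨ρ h v.1, ?_⟩) ⟨fun a b hab => ?_, fun v => ?_⟩
    · obtain ⟨u, hu⟩ := v.2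
      refine ⟨ρ h u, ?_⟩
      rw [← hu, hEh]
      simp only [Module.End.mul_apply]
      rw [← Module.End.mul_apply (ρ h⁻¹), rho_inv_mul, Module.End.one_apply]
    · have h1 := congrArg (fun z => ρ h⁻¹ (Subtype.val z)) hab
      simp only [← Module.End.mul_apply, rho_inv_mul, Module.End.one_apply] at h1
      exact Subtype.ext h1
    · obtain ⟨u, hu⟩ := v.2
      exact ⟨⟨E e₀ (ρ h⁻¹ u), LinearMap.mem_range_self _ _⟩, Subtype.ext (by
        show ρ h (E e₀ (ρ h⁻¹ u)) = v.1
        rw [← hu, hEh]; rfl)⟩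
  have hQ1 : 1 < q ^ f := Nat.one_lt_pow (by omega) hq.out.one_lt
  have hdd : ∀ e, dd e = d := fun e => Nat.pow_right_injective hQ1
    (show (q ^ f) ^ dd e = (q ^ f) ^ d by rw [← hwcard, hd, ← hwcard, hWcard])
  have hd1 : 1 ≤ d := by
    by_contra! h0
    have h1 := hwcard e₀
    rw [← hd, Nat.lt_one_iff.1 h0, pow_zero, Nat.card_eq_one_iff_unique] at h1
    refine hEne e₀ (LinearMap.ext fun v => ?_)
    exact congrArg Subtype.val (@Subsingleton.elim _ h1.1 (⟨E e₀ v, LinearMap.mem_range_self _ v⟩ :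
      LinearMap.range (E e₀)) 0)
  have hVcard : Nat.card V = q ^ (f * d * M) := by
    have e1 : V ≃ ∀ e : P, LinearMap.range (E e) :=
      { toFun := fun v e => ⟨E e v, LinearMap.mem_range_self _ v⟩
        invFun := fun w => ∑ e, (w e).1
        left_inv := fun v => by
          show ∑ e, E e v = v
          rw [← LinearMap.sum_apply, hEsum, Module.End.one_apply]
        right_inv := fun w => funext fun e => Subtype.ext (by
          show E e (∑ e', (w e').1) = (w e).1
          rw [map_sum, Finset.sum_eq_single e]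
          · obtain ⟨u, hu⟩ := (w e).2
            rw [← hu, ← Module.End.mul_apply, hEE]
          · intro b _ hb
            obtain ⟨u, hu⟩ := (w b).2
            rw [← hu, ← Module.End.mul_apply, hEorth e b hb.symm]; rfl
          · simp) }
    rw [Nat.card_congr e1, Nat.card_pi, Finset.prod_congr rfl fun e _ => (hwcard e).trans (by rw [hdd e]),
      Finset.prod_const, Finset.card_univ, ← pow_mul, ← pow_mul, mul_assoc]
  -- supports
  have hMorb : M ≤ (orbitSets ρ).ncard := by
    choose u hu using fun e : P => (show ∃ u, E e u ≠ 0 by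
      by_contra! h; exact hEne e (LinearMap.ext h))
    let supp : V → ℕ := fun v => (Finset.univ.filter fun e : P => E e v ≠ 0).card
    have hsuppinv : ∀ (h : H) v, supp (ρ h v) = supp v := by
      intro h v
      symm
      have hval : ∀ e : P, E (h • e) (ρ h v) = ρ h (E e v) := fun e => by
        rw [hEh]; simp only [Module.End.mul_apply]
        rw [← Module.End.mul_apply (ρ h⁻¹), rho_inv_mul, Module.End.one_apply]
      refine Finset.card_bij' (fun e _ => h • e) (fun e _ => h⁻¹ • e) ?_ ?_ (fun e _ => inv_smul_smul h e)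
        (fun e _ => smul_inv_smul h e)
      · intro e he
        rw [Finset.mem_filter] at he ⊢
        refine ⟨Finset.mem_univ _, fun h0 => he.2 ?_⟩
        rw [hval] at h0
        have h1 := congrArg (ρ h⁻¹) h0
        rwa [← Module.End.mul_apply, rho_inv_mul, map_zero] at h1
      · intro e he
        rw [Finset.mem_filter] at he ⊢
        refine ⟨Finset.mem_univ _, fun h0 => he.2 ?_⟩
        rw [← smul_inv_smul h e, hval, h0, map_zero]
    have hex : ∀ j : Fin M, ∃ v, supp v = j.1 + 1 := by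
      intro j
      obtain ⟨t, -, ht⟩ := Finset.exists_subset_card_eq (s := (Finset.univ : Finset P)) (n := j.1 + 1)
        (by rw [Finset.card_univ, ← hM]; exact j.2)
      refine ⟨∑ e ∈ t, E e (u e), ?_⟩
      show Finset.card _ = _
      rw [← ht]
      congr 1
      ext e
      rw [Finset.mem_filter, map_sum]
      by_cases he : e ∈ t
      · rw [Finset.sum_eq_single e]
        · rw [← Module.End.mul_apply, hEE]
          exact ⟨fun _ => he, fun _ => ⟨Finset.mem_univ _, hu e⟩⟩
        · intro b _ hb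
          rw [← Module.End.mul_apply, hEorth e b hb.symm]; rfl
        · exact fun h => absurd he h
      · rw [Finset.sum_eq_zero]
        · simp [he]
        · intro b hb
          rw [← Module.End.mul_apply, hEorth e b (fun hh => he (hh ▸ hb))]; rfl
    choose vv hvv using hex
    have hmem : ∀ j, (Set.range fun h : H => ρ h (vv j)) ∈ orbitSets ρ := fun j =>
      ⟨vv j, fun h0 => by
        have := hvv j
        rw [h0] at this
        simp [supp] at this, rfl⟩
    rw [← Nat.card_fin M, ← Nat.card_coe_set_eq]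
    refine Nat.card_le_card_of_injective (fun j => (⟨_, hmem j⟩ : orbitSets ρ)) fun i j hij => ?_
    have h1 : vv i ∈ Set.range fun h : H => ρ h (vv j) := by
      have h0 := congrArg Subtype.val hij
      simp only at h0
      rw [← h0]; exact ⟨1, by simp⟩
    obtain ⟨h, hh⟩ := h1
    have h2 := hvv i
    rw [← hh, hsuppinv, hvv j] at h2
    exact Fin.ext (by omega)
  -- the elementary abelian factors
  let Z : ∀ e : P, Subgroup N₂ := fun e =>
    { carrier := {x | E e * ρ (x : H) ∈ R}
      one_mem' := by simp [E]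
      mul_mem' := fun {x y} hx hy => by
        show E e * ρ ((x : H) * y) ∈ R
        have : E e * ρ ((x : H) * y) = (E e * ρ (x : H)) * (E e * ρ (y : H)) := by
          rw [map_mul, mul_assoc (E e), ← mul_assoc (ρ (x : H)), ← hER e _ x.2, mul_assoc, ← mul_assoc (E e) (E e),
            hEE]
        rw [this]; exact mul_mem hx hy
      inv_mem' := fun {x} hx => by
        show E e * ρ ((x⁻¹ : N₂) : H) ∈ R
        rw [show ((x⁻¹ : N₂) : H) = (x : H) ^ (orderOf (x : H) - 1) from
          (Subgroup.coe_inv _ _).trans (inv_eq_of_mul_eq_one_left (by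
            rw [← pow_succ, Nat.sub_add_cancel (orderOf_pos (x : H)), pow_orderOf_eq_one])), map_pow]
        generalize orderOf (x : H) - 1 = k
        induction k with
        | zero => simp [E]
        | succ k ih =>
          have : E e * ρ (x : H) ^ (k + 1) = (E e * ρ (x : H) ^ k) * (E e * ρ (x : H)) := by
            rw [pow_succ, mul_assoc, ← mul_assoc (ρ (x : H) ^ k),
              ← (Commute.pow_right (show Commute (E e) (ρ (x : H)) from hER e _ x.2) k).eq, mul_assoc,
              ← mul_assoc (E e) (E e), hEE]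
          rw [this]; exact mul_mem ih hx }
  haveI hZn : ∀ e, (Z e).Normal := fun e => ⟨fun x hx y => by
    show E e * ρ ((y : H) * x * (y : H)⁻¹) ∈ R
    have h1 : (y : H) * x * (y : H)⁻¹ = ((y : H) * x * (y : H)⁻¹ * (x : H)⁻¹) * x := by group
    rw [h1, map_mul, ← mul_assoc, hcomm _ (e : R).2 _ (hxy _ y.2 _ x.2), mul_assoc]
    exact mul_mem (hxy _ y.2 _ x.2) hx⟩
  let F : P → Type _ := fun e => N₂ ⧸ Z e
  have hFc : ∀ (e : P) (a b : N₂ ⧸ Z e), a * b = b * a := by
    intro e a b
    obtain ⟨a, rfl⟩ := QuotientGroup.mk_surjective a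
    obtain ⟨b, rfl⟩ := QuotientGroup.mk_surjective b
    rw [← QuotientGroup.mk_mul, ← QuotientGroup.mk_mul, QuotientGroup.eq]
    show E e * ρ (((a : H) * b)⁻¹ * ((b : H) * a)) ∈ R
    rw [show ((a : H) * b)⁻¹ * ((b : H) * a) = (b : H)⁻¹ * (a : H)⁻¹ * (b : H)⁻¹⁻¹ * (a : H)⁻¹⁻¹ by group]
    exact mul_mem (e : R).2 (hxy _ (inv_mem b.2) _ (inv_mem a.2))
  -- size of the factors
  have hn : ∀ e : P, Nat.card (N₂ ⧸ Z e) ≤ d * d := by
    intro e
    haveI : Fintype (N₂ ⧸ Z e) := Fintype.ofFinite _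
    let u : N₂ ⧸ Z e → Module.End (ZMod q) V := fun c => E e * ρ ((c.out : N₂) : H)
    have hindep : ∀ (s : Finset (N₂ ⧸ Z e)) (a : N₂ ⧸ Z e → R),
        ∑ c ∈ s, (a c : Module.End (ZMod q) V) * u c = 0 → ∀ c ∈ s, (e : R) * a c = 0 := by
      intro s
      induction s using Finset.induction with
      | empty => simp
      | insert c₁ s hc₁ ih =>
        intro a hsum
        have hrest : ∀ c ∈ s, (e : R) * a c = 0 := by
          intro c hc
          by_contra hne
          have hne' : c₁ ≠ c := fun h => hc₁ (h ▸ hc)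
          obtain ⟨y, hy, hyne⟩ : ∃ y ∈ N₂, E e * ρ (y * (c.out : H) * y⁻¹ * (c.out : H)⁻¹) ≠
              E e * ρ (y * (c₁.out : H) * y⁻¹ * (c₁.out : H)⁻¹) := by
            by_contra! hall
            refine hne' ?_
            rw [← QuotientGroup.out_eq' c₁, ← QuotientGroup.out_eq' c, QuotientGroup.eq]
            show E e * ρ ((c₁.out : H)⁻¹ * c.out) ∈ R
            refine hscal _ (mul_mem (inv_mem c₁.out.2) c.out.2) e fun y hy => ?_
            set x := (c.out : H) with hx
            set x₁ := (c₁.out : H) with hx₁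
            have h := hall y hy
            have hR1 : ρ (y * x₁ * y⁻¹ * x₁⁻¹) ∈ R := hxy _ hy _ c₁.out.2
            have hR0 : ρ (y * x * y⁻¹ * x⁻¹) ∈ R := hxy _ hy _ c.out.2
            have hz : y * x₁ * y⁻¹ * x₁⁻¹ ∈ T := hR1
            have hz0 : y * x * y⁻¹ * x⁻¹ ∈ T := hR0
            have h3 : y * (x₁⁻¹ * x) * y⁻¹ =
                x₁⁻¹ * x * ((y * x₁ * y⁻¹ * x₁⁻¹)⁻¹ * (y * x * y⁻¹ * x⁻¹)) := by
              have hc0 := hTc _ (mul_mem (inv_mem hz) hz0) _ (hXC (mul_mem (inv_mem c₁.out.2) c.out.2))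
              rw [hc0]
              calc y * (x₁⁻¹ * x) * y⁻¹ = (x₁⁻¹ * (y * x₁ * y⁻¹ * x₁⁻¹)⁻¹ * x₁) * (x₁⁻¹ * ((y * x * y⁻¹ * x⁻¹) * x₁ * x₁⁻¹) * x) := by
                    group
                _ = (y * x₁ * y⁻¹ * x₁⁻¹)⁻¹ * (x₁⁻¹ * (y * x * y⁻¹ * x⁻¹) * x) := by
                    rw [mul_assoc (x₁⁻¹) _ x₁, ← hTc _ (inv_mem hz) x₁ (hXC c₁.out.2),
                      inv_mul_cancel_left, mul_inv_cancel_right]
                _ = _ := by
                    rw [hTc _ hz0 x₁⁻¹ (hXC (inv_mem c₁.out.2))]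
                    simp only [mul_assoc]
                    rfl
            have h4 : E e * ρ ((y * x₁ * y⁻¹ * x₁⁻¹)⁻¹ * (y * x * y⁻¹ * x⁻¹)) = E e := by
              rw [map_mul, ← mul_assoc, hcomm _ (e : R).2 _ (inv_mem_alg ρ R hm hfix hR1), mul_assoc, h,
                ← mul_assoc, ← hcomm _ (e : R).2 _ (inv_mem_alg ρ R hm hfix hR1), mul_assoc,
                rho_inv_mul, mul_one]
            have h5 : y * (x₁⁻¹ * x) = x₁⁻¹ * x * ((y * x₁ * y⁻¹ * x₁⁻¹)⁻¹ * (y * x * y⁻¹ * x⁻¹)) * y := by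
              rw [← h3, inv_mul_cancel_right]
            rw [← map_mul ρ y, h5]
            simp only [map_mul ρ _ y]
            rw [map_mul ρ (x₁⁻¹ * x) (_ * _)]
            have hu := hER e _ (mul_mem (inv_mem c₁.out.2) c.out.2)
            calc E e * (ρ (x₁⁻¹ * x) * ρ y) = ρ (x₁⁻¹ * x) * E e * ρ y := by rw [← mul_assoc, hu]
              _ = ρ (x₁⁻¹ * x) * (E e * ρ ((y * x₁ * y⁻¹ * x₁⁻¹)⁻¹ * (y * x * y⁻¹ * x⁻¹))) * ρ y := by
                  rw [h4]
              _ = _ := by rw [← mul_assoc (ρ (x₁⁻¹ * x)), ← hu]; simp only [mul_assoc]; rfl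
          let w : N₂ ⧸ Z e → R := fun c =>
            ⟨ρ (y * (c.out : H) * y⁻¹ * (c.out : H)⁻¹), hxy _ hy _ c.out.2⟩
          have hconjsum : ∀ c : N₂ ⧸ Z e, ρ y * ((a c : Module.End (ZMod q) V) * u c) * ρ y⁻¹ =
              ((a c * w c : R) : Module.End (ZMod q) V) * u c := by
            intro c
            show _ = (a c : Module.End (ZMod q) V) * ρ (y * (c.out : H) * y⁻¹ * (c.out : H)⁻¹) * (E e * ρ (c.out : H))
            rw [← mul_assoc (ρ y), hXC hy _ (a c).2, mul_assoc _ (ρ y), show u c = E e * ρ (c.out : H) from rfl,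
              ← mul_assoc (ρ y), hXC hy _ (e : R).2, mul_assoc _ (ρ (y * _ * _ * _)),
              ← mul_assoc (ρ (y * _ * _ * _)), hcomm _ (hxy _ hy _ c.out.2) _ (e : R).2,
              mul_assoc _ (ρ (y * _ * _ * _)), ← map_mul ρ (y * _ * _ * _), inv_mul_cancel_right, map_mul, map_mul]
            simp only [mul_assoc]
          have hsum' : ∑ c' ∈ insert c₁ s, ((a c' * w c' : R) : Module.End (ZMod q) V) * u c' = 0 := by
            rw [← Finset.sum_congr rfl fun c' _ => hconjsum c', ← Finset.sum_mul, ← Finset.mul_sum, hsum,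
              mul_zero, zero_mul]
          have hdiff : ∑ c' ∈ s, ((a c' * (w c' - w c₁) : R) : Module.End (ZMod q) V) * u c' = 0 := by
            have h1 : ∑ c' ∈ insert c₁ s, ((a c' * (w c' - w c₁) : R) : Module.End (ZMod q) V) * u c' = 0 := by
              rw [Finset.sum_congr rfl fun c' _ => show ((a c' * (w c' - w c₁) : R) : Module.End (ZMod q) V) * u c' =
                ((a c' * w c' : R) : Module.End (ZMod q) V) * u c' -
                  (w c₁ : Module.End (ZMod q) V) * ((a c' : Module.End (ZMod q) V) * u c') by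
                rw [mul_sub, Subalgebra.coe_sub, sub_mul, mul_comm (a c') (w c₁), ← mul_assoc]; rfl,
                Finset.sum_sub_distrib, hsum', ← Finset.mul_sum, hsum, mul_zero, sub_zero]
            rwa [Finset.sum_insert hc₁, sub_self, mul_zero, ZeroMemClass.coe_zero, zero_mul, zero_add] at h1
          have h2 := ih _ hdiff c hc
          obtain ⟨t, ht⟩ := atom_unit e.2 hN hfixR hne
          refine hyne (congrArg Subtype.val (?_ : (e : R) * w c = (e : R) * w c₁))
          rw [← sub_eq_zero, ← mul_sub]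
          calc (e : R) * (w c - w c₁) = (e : R) * a c * t * (w c - w c₁) := by rw [ht]
            _ = t * ((e : R) * (a c * (w c - w c₁))) := by ring
            _ = 0 := by rw [h2, mul_zero]
        intro c hc
        rcases Finset.mem_insert.1 hc with rfl | hc
        · rw [Finset.sum_insert hc₁, Finset.sum_eq_zero, add_zero] at hsum
          · apply Subtype.ext
            show E e * (a c : Module.End (ZMod q) V) = 0
            have h1 := congrArg (fun z => z * ρ (c.out : H)⁻¹) hsum
            simp only [u, zero_mul, mul_assoc, rho_mul_inv, mul_one] at h1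
            rw [hcomm _ (e : R).2 _ (a c).2]; exact h1
          · intro c' hc'
            show (a c' : Module.End (ZMod q) V) * (E e * _) = 0
            rw [← mul_assoc, ← hcomm _ (e : R).2 _ (a c').2,
              show E e * (a c' : Module.End (ZMod q) V) = 0 from congrArg Subtype.val (hrest c' hc'), zero_mul]
        · exact hrest c hc
    let Φ : (N₂ ⧸ Z e → {r : R // (e : R) * r = r}) → (Fin (dd e) → LinearMap.range (E e)) := fun a i =>
      ⟨(∑ c, ((a c).1 : Module.End (ZMod q) V) * u c) (ww e i), _, by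
        rw [← Module.End.mul_apply, Finset.mul_sum]
        refine congrFun (congrArg DFunLike.coe (Finset.sum_congr rfl fun c _ => ?_)) _
        rw [← mul_assoc, show E e * ((a c).1 : Module.End (ZMod q) V) = (a c).1 from congrArg Subtype.val (a c).2]⟩
    have hΦ : Function.Injective Φ := by
      intro a b hab
      funext c
      have hz : ∑ c, (((a c).1 - (b c).1 : R) : Module.End (ZMod q) V) * u c = 0 := by
        have hU : ∀ i, (∑ c, (((a c).1 - (b c).1 : R) : Module.End (ZMod q) V) * u c) (ww e i) = 0 := by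
          intro i
          have := congrArg Subtype.val (congrFun hab i)
          simp only [Subalgebra.coe_sub, sub_mul, Finset.sum_sub_distrib, LinearMap.sub_apply, sub_eq_zero]
          exact this
        set U := ∑ c, (((a c).1 - (b c).1 : R) : Module.End (ZMod q) V) * u c with hUdef
        have hUR : ∀ r ∈ R, U * r = r * U := by
          intro r hr
          rw [hUdef, Finset.sum_mul, Finset.mul_sum]
          refine Finset.sum_congr rfl fun c _ => ?_
          simp only [u]
          rw [mul_assoc, mul_assoc (E e), hXC c.out.2 r hr, ← mul_assoc (E e), hcomm _ (e : R).2 r hr,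
            mul_assoc r, ← mul_assoc _ r, hcomm _ ((a c).1 - (b c).1 : R).2 r hr, mul_assoc]
        have hUe : U * E e = U := by
          rw [hUdef, Finset.sum_mul]
          refine Finset.sum_congr rfl fun c _ => ?_
          simp only [u]
          rw [mul_assoc, mul_assoc (E e), ← hER e _ c.out.2, ← mul_assoc (E e), hEE]
        refine LinearMap.ext fun v => ?_
        obtain ⟨r, hr⟩ := hwspan e (E e v) (LinearMap.mem_range_self _ v)
        conv_lhs => rw [← hUe, Module.End.mul_apply, hr, map_sum]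
        refine Finset.sum_eq_zero fun i _ => ?_
        rw [← Module.End.mul_apply, hUR _ (r i).2, Module.End.mul_apply, hU, map_zero]
      have := hindep Finset.univ _ hz c (Finset.mem_univ _)
      rw [mul_sub, (a c).2, (b c).2, sub_eq_zero] at this
      exact Subtype.ext this
    have h1 := Nat.card_le_card_of_injective Φ hΦ
    rw [Nat.card_fun, Nat.card_fun, Nat.card_fin, card_atom_corner e.2, hQcard e, hwcard e, hdd e, ← pow_mul (q ^ f)] at h1
    exact (Nat.pow_le_pow_iff_right hQ1).1 h1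
  -- automorphisms
  let φ : C →* MulAut N₂ := (MulAut.conjNormal (H := N₂)).comp C.subtype
  have hφ : ∀ (c : C) (x : N₂), ((φ c x : N₂) : H) = (c : H) * x * (c : H)⁻¹ := fun c x => rfl
  have hZst : ∀ (e : P) (c : C) (x : N₂), x ∈ Z e → φ c x ∈ Z e := by
    intro e c x hx
    show E e * ρ ((c : H) * x * (c : H)⁻¹) ∈ R
    rw [rho_conj, ← mul_assoc, ← mul_assoc, ← c.2 _ (e : R).2, mul_assoc (ρ (c : H)), c.2 _ hx, mul_assoc,
      rho_mul_inv, mul_one]
    exact hx
  let θ : ∀ e : P, C →* MulAut (N₂ ⧸ Z e) := fun e =>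
    { toFun := fun c => MonoidHom.toMulEquiv
        (QuotientGroup.map (Z e) (Z e) (φ c).toMonoidHom (fun x hx => hZst e c x hx))
        (QuotientGroup.map (Z e) (Z e) (φ c⁻¹).toMonoidHom (fun x hx => hZst e c⁻¹ x hx))
        (QuotientGroup.monoidHom_ext _ (MonoidHom.ext fun x => congrArg QuotientGroup.mk (by
          show φ c⁻¹ (φ c x) = x
          rw [map_inv]; exact (φ c).symm_apply_apply x)))
        (QuotientGroup.monoidHom_ext _ (MonoidHom.ext fun x => congrArg QuotientGroup.mk (by
          show φ c (φ c⁻¹ x) = x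
          rw [map_inv]; exact (φ c).apply_symm_apply x)))
      map_one' := MulEquiv.ext fun z => QuotientGroup.induction_on z fun x => congrArg QuotientGroup.mk (by
        show φ 1 x = x
        rw [map_one]; rfl)
      map_mul' := fun c c' => MulEquiv.ext fun z => QuotientGroup.induction_on z fun x =>
        congrArg QuotientGroup.mk (by show φ (c * c') x = φ c (φ c' x); rw [map_mul]; rfl) }
  let Θ : C →* ∀ e : P, MulAut (N₂ ⧸ Z e) := Pi.monoidHom θ
  have hker : ∀ c : Θ.ker, ∀ (e : P) (x : N₂), E e * ρ (((c : C) : H) * x * ((c : C) : H)⁻¹ * (x : H)⁻¹) ∈ R := by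
    intro c e x
    have h1 := MulEquiv.congr_fun (congrFun (MonoidHom.mem_ker.1 c.2) e) (QuotientGroup.mk x)
    have h2 : (QuotientGroup.mk (φ c x) : N₂ ⧸ Z e) = QuotientGroup.mk x := h1
    have h3 : φ c x / x ∈ Z e := QuotientGroup.eq_iff_div_mem.1 h2
    simpa [div_eq_mul_inv, hφ] using (show E e * ρ ((φ c x / x : N₂) : H) ∈ R from h3)
  let lam : ∀ (c : Θ.ker) (e : P), (N₂ ⧸ Z e) →* R ⧸ killIdeal (e : R) := fun c e =>
    QuotientGroup.lift (Z e)
      { toFun := fun x => Ideal.Quotient.mk _ ⟨_, hker c e x⟩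
        map_one' := by
          rw [← map_one (Ideal.Quotient.mk (killIdeal (e : R))), mk_killIdeal_eq_iff]
          apply Subtype.ext
          show E e * (E e * ρ (((c : C) : H) * 1 * ((c : C) : H)⁻¹ * (1 : H)⁻¹)) = E e * 1
          simp [← mul_assoc, hEE]
        map_mul' := fun x y => by
          rw [← map_mul, mk_killIdeal_eq_iff]
          apply Subtype.ext
          show E e * (E e * ρ (((c : C) : H) * ((x : H) * y) * ((c : C) : H)⁻¹ * ((x : H) * y)⁻¹)) =
            E e * ((E e * ρ (((c : C) : H) * x * ((c : C) : H)⁻¹ * (x : H)⁻¹)) *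
              (E e * ρ (((c : C) : H) * y * ((c : C) : H)⁻¹ * (y : H)⁻¹)))
          set zx := ((c : C) : H) * x * ((c : C) : H)⁻¹ * (x : H)⁻¹ with hzx
          set zy := ((c : C) : H) * y * ((c : C) : H)⁻¹ * (y : H)⁻¹ with hzy
          rw [show ((c : C) : H) * ((x : H) * y) * ((c : C) : H)⁻¹ * ((x : H) * y)⁻¹ =
              zx * (x * zy * (x : H)⁻¹) by rw [hzx, hzy]; group,
            map_mul, rho_conj, ← mul_assoc (E e) (E e), hEE, ← mul_assoc (E e) (E e * ρ zx),
            ← mul_assoc (E e) (E e), hEE]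
          have h1 : E e * ρ zy ∈ R := hker c e y
          have h2 : ρ (x : H) * (E e * ρ zy) * ρ (x : H)⁻¹ = E e * ρ zy := by
            rw [hXC x.2 _ h1, mul_assoc, rho_mul_inv, mul_one]
          have h3 : E e * ρ zx * E e = E e * ρ zx := by
            rw [hcomm _ (hker c e x) _ (e : R).2, ← mul_assoc, hEE]
          conv_rhs => rw [← h2]
          simp only [← mul_assoc]
          rw [mul_assoc (E e * ρ zx) (ρ (x : H)) (E e), ← hER e _ x.2, ← mul_assoc (E e * ρ zx) (E e), h3] }
      (fun x hx => by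
        rw [MonoidHom.mem_ker]
        show Ideal.Quotient.mk _ _ = 1
        rw [← map_one (Ideal.Quotient.mk (killIdeal (e : R))), mk_killIdeal_eq_iff]
        apply Subtype.ext
        show E e * (E e * ρ (((c : C) : H) * x * ((c : C) : H)⁻¹ * (x : H)⁻¹)) = E e * 1
        rw [← mul_assoc, hEE, mul_one, map_mul, rho_conj, ← mul_assoc, ← mul_assoc, ← mul_assoc,
          ← c.1.2 _ (e : R).2, mul_assoc (ρ ((c : C) : H)), c.1.2 _ hx, mul_assoc (E e * ρ (x : H)),
          rho_mul_inv, mul_one, mul_assoc, rho_mul_inv, mul_one])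
  have hlam : ∀ c c' : Θ.ker, lam c = lam c' → ((c : C) : H)⁻¹ * ((c' : C) : H) ∈ T := by
    intro c c' hcc
    refine hCX _ (C.mul_mem (C.inv_mem c.1.2) c'.1.2) fun y hy => ?_
    have hall : ((c : C) : H) * y * ((c : C) : H)⁻¹ * y⁻¹ = ((c' : C) : H) * y * ((c' : C) : H)⁻¹ * y⁻¹ := by
      apply hinj
      rw [← one_mul (ρ (((c : C) : H) * y * _ * _)), ← one_mul (ρ (((c' : C) : H) * y * _ * _)), ← hEsum,
        Finset.sum_mul, Finset.sum_mul]
      refine Finset.sum_congr rfl fun e _ => ?_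
      have h1 := DFunLike.congr_fun (congrFun hcc e) (QuotientGroup.mk ⟨y, hy⟩)
      have h2 : E e * (E e * ρ (((c : C) : H) * y * ((c : C) : H)⁻¹ * y⁻¹)) =
          E e * (E e * ρ (((c' : C) : H) * y * ((c' : C) : H)⁻¹ * y⁻¹)) :=
        congrArg Subtype.val (mk_killIdeal_eq_iff.1 h1)
      simpa [← mul_assoc, hEE] using h2
    rw [mul_left_inj] at hall
    calc ((c : C) : H)⁻¹ * ((c' : C) : H) * y = ((c : C) : H)⁻¹ * (((c' : C) : H) * y * ((c' : C) : H)⁻¹) * ((c' : C) : H) := by
          group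
      _ = ((c : C) : H)⁻¹ * (((c : C) : H) * y * ((c : C) : H)⁻¹) * ((c' : C) : H) := by rw [hall]
      _ = y * (((c : C) : H)⁻¹ * ((c' : C) : H)) := by group
  have hKcard : Nat.card Θ.ker ≤ (∏ e : P, Nat.card (N₂ ⧸ Z e)) * Nat.card T := by
    have hfib : Nat.card (Set.range lam) ≤ ∏ e : P, Nat.card (N₂ ⧸ Z e) := by
      haveI : ∀ e : P, Finite ((N₂ ⧸ Z e) →* R ⧸ killIdeal (e : R)) := fun e =>
        Finite.of_injective (fun g => (g : (N₂ ⧸ Z e) → R ⧸ killIdeal (e : R))) DFunLike.coe_injective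
      refine (Nat.card_le_card_of_injective _ Subtype.val_injective).trans ?_
      rw [Nat.card_pi]
      refine Finset.prod_le_prod' fun e _ => ?_
      haveI : Fintype (N₂ ⧸ Z e) := Fintype.ofFinite _
      haveI : Fintype ((N₂ ⧸ Z e) →* R ⧸ killIdeal (e : R)) := Fintype.ofFinite _
      have h := (linearIndependent_monoidHom (N₂ ⧸ Z e) (R ⧸ killIdeal (e : R))).fintype_card_le_finrank
      rw [Module.finrank_pi] at h
      rw [Nat.card_eq_fintype_card, Nat.card_eq_fintype_card]
      exact h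
    let G' : Θ.ker → Set.range lam × T := fun c => (⟨lam c, c, rfl⟩,
      ⟨((Classical.choose (show ∃ c', lam c' = lam c from ⟨c, rfl⟩) : Θ.ker) : C).1⁻¹ * ((c : C) : H),
        hlam _ _ (Classical.choose_spec (show ∃ c', lam c' = lam c from ⟨c, rfl⟩))⟩)
    have hG' : Function.Injective G' := by
      intro a b hab
      have h1 : lam a = lam b := congrArg Subtype.val (congrArg Prod.fst hab)
      have h2 := congrArg Subtype.val (congrArg Prod.snd hab)
      simp only [G'] at h2
      simp only [h1] at h2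
      exact Subtype.ext (Subtype.ext (mul_left_cancel h2))
    refine (Nat.card_le_card_of_injective G' hG').trans ?_
    rw [Nat.card_prod]
    exact Nat.mul_le_mul_right _ hfib
  have hCcard : Nat.card C ≤ psi d ^ M * Nat.card T := by
    rw [← Subgroup.card_mul_index Θ.ker, Subgroup.index_ker]
    refine (Nat.mul_le_mul hKcard (Subgroup.card_le_card_group _)).trans ?_
    rw [Nat.card_pi, mul_right_comm, ← Finset.prod_mul_distrib]
    refine Nat.mul_le_mul_right _ ?_
    rw [hM, ← Finset.card_univ, ← Finset.prod_const]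
    refine Finset.prod_le_prod' fun e _ => ?_
    refine le_trans (Nat.mul_le_mul_left _ card_mulAut_le) ?_
    exact Finset.le_sup (f := fun n => n * autBound n) (Finset.mem_Icc.2 ⟨Nat.card_pos, hn e⟩)
  refine ⟨f, d, M, S, k, hf1, hd1, hM1, hk1, hVcard, hpQ, hk, hHA, hS3, hSfac, hMorb, ?_⟩
  rw [← hVcard]
  calc Nat.card V - 1 ≤ (orbitSets ρ).ncard * Nat.card H := card_sub_one_le ρ
    _ = (orbitSets ρ).ncard * (Nat.card C * C.index) := by rw [Subgroup.card_mul_index]
    _ ≤ (orbitSets ρ).ncard * ((psi d ^ M * (Nat.card (ConjClasses H) * C.index)) * C.index) := by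
        refine Nat.mul_le_mul_left _ (Nat.mul_le_mul_right _ ?_)
        exact hCcard.trans (Nat.mul_le_mul_left _ (card_le_classes_mul_index T C hTc))
    _ = (orbitSets ρ).ncard * Nat.card (ConjClasses H) * (C.index * C.index) * psi d ^ M := by ring
    _ ≤ (orbitSets ρ).ncard * Nat.card (ConjClasses H) * (S * f ^ M) ^ 2 * psi d ^ M := by
        rw [pow_two]
        gcongr

end CfsgLib.SolvClass
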